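import Cfsg.Agent.H530.HT.SzSum
import Cfsg.Agent.OddCyclic.ClaimC.SzIso
import Cfsg.Agent.S0333
import Cfsg.Agent.S0324

/-!
# `Sz(8)` has no projective character of degree `8` (helper530)

`mult_sum` : `∑_{k ≠ 0} |χ (z ^ k)| ^ 2 ≥ s (r - s)`, `z` of prime order `r`, `s` the residue of `χ 1` modulo `r`.
`no_eight` : `π : Q → Sz(8)` surjective, `π.ker` central of exponent `2`: no irreducible character of degree `8`.
-/

set_option autoImplicit false

namespace Cfsg.Agent.H530.HT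

open Cfsg
open scoped ComplexConjugate
open Cfsg.Agent.Characters.Core Cfsg.Agent.Blocks.CyclicGroup

theorem mult_sum {G : Type*} [Group G] [Finite G] (χ : IrrCharacter G) {r : ℕ} [hr : Fact r.Prime] {z : G}
    (hz : orderOf z = r) {d k s : ℕ} (hd : (χ : G → ℂ) 1 = (d : ℂ)) (hk : d = r * k + s) (hs : s ≤ r) :
    ((s * (r - s) : ℕ) : ℝ) ≤ ∑ m ∈ (Finset.univ : Finset (ZMod r)).erase 0, ‖(χ : G → ℂ) (z ^ m.val)‖ ^ 2 := by
  classical
  obtain ⟨n, h1, -, h3, -⟩ := H388.R27.exists_mults χ hz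
  have h4 : ∑ i : ZMod r, (n i : ℤ) = d := by
    have h5 := h1 0
    rw [u_eq, ZMod.val_zero, pow_zero, hd] at h5
    have h6 : ∀ i : ZMod r, (n i : ℂ) * (ZMod.stdAddChar (i * 0) : ℂ) = (n i : ℂ) := by
      intro i
      rw [mul_zero, AddChar.map_zero_eq_one, mul_one]
    rw [Finset.sum_congr rfl fun i _ => h6 i] at h5
    exact_mod_cast h5.symm
  have h5 := sq_sum (fun i : ZMod r => (n i : ℤ)) (r := r) (d := d) (k := k) (s := s) (by rw [ZMod.card]) h4
    (by exact_mod_cast hk) (by positivity)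
  have h6 : ∑ m : ZMod r, ‖(χ : G → ℂ) (z ^ m.val)‖ ^ 2 = r * ∑ i : ZMod r, (n i : ℝ) ^ 2 := by
    have h7 : ((∑ m : ZMod r, ‖(χ : G → ℂ) (z ^ m.val)‖ ^ 2 : ℝ) : ℂ) = ((r * ∑ i : ZMod r, (n i : ℝ) ^ 2 : ℝ) : ℂ) := by
      rw [Complex.ofReal_sum]
      push_cast
      rw [← h3]
      refine Finset.sum_congr rfl fun m _ => ?_
      rw [Complex.mul_conj', u_eq]
    exact_mod_cast h7
  have h7 := Finset.add_sum_erase (Finset.univ : Finset (ZMod r)) (fun m => ‖(χ : G → ℂ) (z ^ m.val)‖ ^ 2)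
    (Finset.mem_univ 0)
  rw [ZMod.val_zero, pow_zero, hd, h6] at h7
  have h8 : ((s * (r - s) : ℤ) : ℝ) ≤ ((r * ∑ i : ZMod r, (n i : ℤ) ^ 2 - (d : ℤ) ^ 2 : ℤ) : ℝ) := by exact_mod_cast h5
  have h9 : ((s * (r - s) : ℕ) : ℝ) = ((s * (r - s) : ℤ) : ℝ) := by
    rw [Nat.cast_mul, Nat.cast_sub hs]
    push_cast
    ring
  rw [h9]
  refine h8.trans ?_
  push_cast
  have h10 : ‖((d : ℕ) : ℂ)‖ = d := Complex.norm_natCast d
  rw [h10] at h7
  linarith

/-- the Suzuki group `Sz(8)` -/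
theorem no_eight {Q : Type*} [Group Q] [Finite Q] {K : Type*} [Field K] [Fintype K] (hK : Fintype.card K = 2 ^ (2 * 1 + 1))
    (π : Q →* Cfsg.Sz K 1) (hs : Function.Surjective π) (hc : π.ker ≤ Subgroup.center Q)
    (hsq : ∀ z ∈ π.ker, z * z = 1) (χ : IrrCharacter Q) (h8 : (χ : Q → ℂ) 1 = ((8 : ℕ) : ℂ)) : False := by
  classical
  have hfin : Finite (Cfsg.Sz K 1) := inferInstance
  have := Fintype.ofFinite (Cfsg.Sz K 1)
  have := Fintype.ofFinite Q
  let σ : Cfsg.Sz K 1 → Q := Function.surjInv hs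
  have hσ : ∀ y, π (σ y) = y := Function.surjInv_eq hs
  let F : Cfsg.Sz K 1 → ℝ := fun y => ‖(χ : Q → ℂ) (σ y)‖ ^ 2
  have hF : ∀ g, F (π g) = ‖(χ : Q → ℂ) g‖ ^ 2 := by
    intro g
    have h1 : g⁻¹ * σ (π g) ∈ π.ker := by rw [MonoidHom.mem_ker, map_mul, map_inv, hσ, inv_mul_cancel]
    have h2 := H418.CC.norm_mul_central χ.2 (hc h1) g
    rw [mul_inv_cancel_left] at h2
    show ‖(χ : Q → ℂ) (σ (π g))‖ ^ 2 = _
    rw [h2]
  have hF0 : ∀ y, 0 ≤ F y := fun y => sq_nonneg _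
  have hFc : ∀ s t, F (s * t * s⁻¹) = F t := by
    intro s t
    obtain ⟨a, rfl⟩ := hs s
    obtain ⟨b, rfl⟩ := hs t
    rw [← map_inv, ← map_mul, ← map_mul, hF, hF, isIrr_isClassFunction χ.2 b a]
  -- the total
  have hsum : ∑ y : Cfsg.Sz K 1, F y = Nat.card (Cfsg.Sz K 1) := by
    have h1 : ∑ g : Q, F (π g) = Nat.card Q := by
      have h2 : classInner (χ : Q → ℂ) (χ : Q → ℂ) = 1 := classInner_irr_self χ.2
      rw [classInner_def] at h2
      have hne : (Nat.card Q : ℂ) ≠ 0 := card_ne_zero_complex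
      have h3 : ∑ g : Q, (χ : Q → ℂ) g * conj ((χ : Q → ℂ) g) = Nat.card Q := by
        field_simp at h2
        exact h2
      have h4 : ((∑ g : Q, F (π g) : ℝ) : ℂ) = ((Nat.card Q : ℝ) : ℂ) := by
        rw [Complex.ofReal_natCast, ← h3, Complex.ofReal_sum]
        refine Finset.sum_congr rfl fun g _ => ?_
        rw [hF, Complex.mul_conj']
        push_cast
        rfl
      exact_mod_cast h4
    have h2 := H730.Hit.sum_comp_mul π hs F
    rw [h1] at h2
    have hQc : (Nat.card Q : ℝ) ≠ 0 := by exact_mod_cast Nat.card_pos.ne'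
    exact (mul_left_cancel₀ hQc h2).symm
  -- elements of odd prime order
  have key : ∀ {r : ℕ} [hr : Fact r.Prime], r ≠ 2 → (r = 2 ^ (2 * 1 + 1) + 2 ^ (1 + 1) + 1 ∨
      r = 2 ^ (2 * 1 + 1) - 2 ^ (1 + 1) + 1) → ∀ {k s : ℕ}, 8 = r * k + s → s ≤ r →
      (Nat.card (Cfsg.Sz K 1) : ℝ) * ((s * (r - s) : ℕ) : ℝ) ≤
        ((4 * r : ℕ) : ℝ) * ∑ t ∈ (Finset.univ : Finset (Cfsg.Sz K 1)).filter (fun t => orderOf t = r), F t := by
    intro r hr hr2 hrk k s hk hs'
    obtain ⟨U, hU1, hU2, -, hU4⟩ := S0333.result (m := 1) le_rfl hK r (by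
      rcases hrk with h | h
      · exact Or.inl h
      · exact Or.inr h)
    obtain ⟨u, hu⟩ := exists_prime_orderOf_dvd_card' (G := U) r (by rw [hU2])
    have hu' : orderOf (u : Cfsg.Sz K 1) = r := by rw [Subgroup.orderOf_coe, hu]
    obtain ⟨y, hy⟩ := hs (u : Cfsg.Sz K 1)
    -- the lift of order `r`
    have h1 : (y ^ 2) ^ r = 1 := by
      have h2 : y ^ r ∈ π.ker := by rw [MonoidHom.mem_ker, map_pow, hy, ← hu', pow_orderOf_eq_one]
      rw [← pow_mul, mul_comm, pow_mul, pow_two]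
      exact hsq _ h2
    have h2 : π (y ^ 2) ≠ 1 := by
      intro h
      rw [map_pow, hy] at h
      have := orderOf_dvd_of_pow_eq_one h
      rw [hu'] at this
      exact hr2 ((Nat.prime_dvd_prime_iff_eq hr.out Nat.prime_two).1 this)
    have h3 : orderOf (y ^ 2) = r := by
      refine orderOf_eq_prime h1 ?_
      intro h
      exact h2 (by rw [h, map_one])
    have h4 : orderOf (π (y ^ 2)) = r := by
      refine orderOf_eq_prime ?_ h2
      rw [← map_pow, h1, map_one]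
    have h5 : Subgroup.zpowers (π (y ^ 2)) = U := by
      refine Subgroup.eq_of_le_of_card_ge ?_ ?_
      · rw [Subgroup.zpowers_le, map_pow, hy]
        exact Subgroup.pow_mem _ u.2 _
      · rw [Nat.card_zpowers, h4, hU2]
    refine orbit_sum F hF0 hFc h4 ?_ (N := 4 * r) (by rw [h5, hU4])
    refine (mult_sum χ h3 h8 hk hs').trans (le_of_eq ?_)
    refine Finset.sum_congr rfl fun m _ => ?_
    rw [← map_pow, hF]
  have f13 : Fact (Nat.Prime 13) := ⟨by norm_num⟩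
  have f5 : Fact (Nat.Prime 5) := ⟨by norm_num⟩
  have k13 := key (r := 13) (by norm_num) (Or.inl (by norm_num)) (k := 0) (s := 8) (by norm_num) (by norm_num)
  have k5 := key (r := 5) (by norm_num) (Or.inr (by norm_num)) (k := 1) (s := 3) (by norm_num) (by norm_num)
  have hdis : Disjoint ((Finset.univ : Finset (Cfsg.Sz K 1)).filter (fun t => orderOf t = 13))
      ((Finset.univ : Finset (Cfsg.Sz K 1)).filter (fun t => orderOf t = 5)) := by
    rw [Finset.disjoint_left]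
    intro t ht ht'
    have h1 := (Finset.mem_filter.1 ht).2
    have h2 := (Finset.mem_filter.1 ht').2
    omega
  have hle : ∑ t ∈ (Finset.univ : Finset (Cfsg.Sz K 1)).filter (fun t => orderOf t = 13), F t +
      ∑ t ∈ (Finset.univ : Finset (Cfsg.Sz K 1)).filter (fun t => orderOf t = 5), F t ≤ Nat.card (Cfsg.Sz K 1) := by
    rw [← Finset.sum_union hdis, ← hsum]
    exact Finset.sum_le_sum_of_subset_of_nonneg (Finset.subset_univ _) fun i _ _ => hF0 i
  have hpos : (0 : ℝ) < Nat.card (Cfsg.Sz K 1) := by exact_mod_cast Nat.card_pos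
  have e1 : ((8 * (13 - 8) : ℕ) : ℝ) = 40 := by norm_num
  have e2 : ((3 * (5 - 3) : ℕ) : ℝ) = 6 := by norm_num
  have e3 : ((4 * 13 : ℕ) : ℝ) = 52 := by norm_num
  have e4 : ((4 * 5 : ℕ) : ℝ) = 20 := by norm_num
  rw [e1, e3] at k13
  rw [e2, e4] at k5
  linarith

end Cfsg.Agent.H530.HT
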