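import Cfsg.Agent.H530.HT.SmLie
import Cfsg.Agent.H530.HT.SzChar
import Cfsg.Agent.H845.LiftIrr
import Cfsg.Agent.H814.SzEightCore

/-!
# S3540, S1b: `Sz(8)` and the final statement (helper530)
-/

set_option autoImplicit false
set_option linter.unusedSectionVars false

universe u v

namespace Cfsg.Agent.H530.HT

open Cfsg Cfsg.Agent.H915.LD Cfsg.Agent.H337.HT Cfsg.Agent.H912.Bd

variable {F : Type u} [Field F] [Finite F] {n p : ℕ} [hp : Fact p.Prime] [CharP F p]
  {P : Subgroup (Matrix.GeneralLinearGroup (Fin n) F)}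

/-- no core with socle `Sz(8)` in characteristic prime to the order -/
theorem not_sz8 (hC : Core P) (hn : n ≤ 12) (hpT : ¬ p ∣ Nat.card (Soc P)) (h : IsSz8 (Soc P)) : False := by
  have h0 := h
  obtain ⟨K, iK, iKf, hK, ⟨e⟩⟩ := h
  have hK' : Fintype.card K = 2 ^ (2 * 1 + 1) := by rw [hK]; norm_num
  obtain ⟨f⟩ := OddCyclic.ClaimC.SzIso.iso (m := 1) le_rfl hK'
  have hcard : Nat.card (Soc P) = 29120 := by
    rw [Nat.card_congr (e.trans f.symm).toEquiv, S0324.result (m := 1) le_rfl hK']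
    norm_num
  have hp2 : p ≠ 2 := by
    rintro rfl
    apply hpT
    rw [hcard]
    norm_num
  have h2 : (2 : F) ≠ 0 := by
    intro h
    have h1 : ((2 : ℕ) : F) = 0 := by exact_mod_cast h
    rw [CharP.cast_eq_zero_iff F p] at h1
    exact hp2 ((Nat.prime_dvd_prime_iff_eq hp.out Nat.prime_two).1 h1)
  have h8 := (H814.Sz8.core_sz8 hC h2 (by rw [Fintype.card_fin]; exact hn) h0).1
  rw [Fintype.card_fin] at h8
  subst h8
  have hmult : Cfsg.HasSchurMultiplier ↥(Cfsg.Lie.Sz K 4) (Multiplicative (ZMod 2 × ZMod 2)) := S2112.result hK'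
  have hsq : ∀ z ∈ (Cfsg.Geo.scalars (Fin 8) F).subgroupOf P, z * z = 1 := by
    intro z hz
    obtain ⟨f, hf⟩ := H95.StemCover.exists_surj_ker hmult hC.commutator_top (e.toMonoidHom.comp (toSoc P))
      (e.surjective.comp (toSoc_surjective P)) (by rw [ker_comp e]; exact scalars_le_center)
    have hz' : z ∈ (e.toMonoidHom.comp (toSoc P)).ker := by rw [ker_comp e]; exact hz
    obtain ⟨a, ha⟩ := hf ⟨z, hz'⟩
    have h3 : a * a = 1 := by
      revert a
      have : ∀ a : Multiplicative (ZMod 2 × ZMod 2), a * a = 1 := by decide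
      intro a _
      exact this a
    have h4 := congrArg f h3
    rw [map_mul, map_one, ha] at h4
    exact congrArg Subtype.val h4
  let π : P →* Cfsg.Sz K 1 := (e.trans f.symm).toMonoidHom.comp (toSoc P)
  have hker : π.ker = (Cfsg.Geo.scalars (Fin 8) F).subgroupOf P := ker_comp (e.trans f.symm)
  have hcop : ¬ p ∣ Nat.card P := by
    intro hd
    rw [Subgroup.card_eq_card_quotient_mul_card_subgroup ((Cfsg.Geo.scalars (Fin 8) F).subgroupOf P)] at hd
    rcases (Nat.Prime.dvd_mul hp.out).1 hd with h1 | h1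
    · exact hpT h1
    · obtain ⟨z, hz⟩ := exists_prime_orderOf_dvd_card' p h1
      have h3 : z ^ 2 = 1 := by
        rw [pow_two]
        exact Subtype.ext (hsq z z.2)
      have h4 := orderOf_dvd_of_pow_eq_one h3
      rw [hz] at h4
      exact hp2 ((Nat.prime_dvd_prime_iff_eq hp.out Nat.prime_two).1 h4)
  have hSC : H845.LiftIrr.SC (fun g : P => ((P.subtype g : Matrix.GeneralLinearGroup (Fin 8) F) :
      Matrix (Fin 8) (Fin 8) F)) := by
    intro X hX
    have h1 := Cfsg.Agent.H920.span_eq_top hC.absIrred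
    have h3 : ∀ Y : Matrix (Fin 8) (Fin 8) F, X * Y = Y * X := by
      intro Y
      have hY : Y ∈ Submodule.span F (Cfsg.Geo.matrixSet P) := by rw [h1]; trivial
      induction hY using Submodule.span_induction with
      | mem Y hY =>
        obtain ⟨g, hg, rfl⟩ := hY
        exact hX ⟨g, hg⟩
      | zero => rw [Matrix.mul_zero, Matrix.zero_mul]
      | add Y Z _ _ h4 h5 => rw [Matrix.mul_add, Matrix.add_mul, h4, h5]
      | smul a Y _ h4 => rw [Matrix.mul_smul, Matrix.smul_mul, h4]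
    obtain ⟨c, hc⟩ := (Matrix.mem_range_scalar_iff_commute_single').2 (fun i j => (h3 (Matrix.single i j 1)).symm)
    exact ⟨c, by rw [← hc, Matrix.scalar_apply, ← Matrix.smul_one_eq_diagonal]⟩
  obtain ⟨ρ, hρ, -⟩ := H845.LiftIrr.exists_irr_lift hcop (by norm_num : 0 < 8) P.subtype hSC
  have hirr := Characters.Core.isIrrCharacter_of_rep ρ hρ
  have : Finite P := inferInstance
  refine no_eight hK' π ((e.trans f.symm).surjective.comp (toSoc_surjective P)) ?_ ?_ ⟨ρ.character, hirr⟩ ?_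
  · rw [hker]
    exact scalars_le_center
  · intro z hz
    rw [hker] at hz
    exact hsq z hz
  · show ρ.character 1 = _
    rw [Representation.char_one]
    simp

/-- **S1b.** `LieC`, `MultD`, `Sz(8)`. -/
theorem small_all (hC : Core P) (hn : n ≤ 12) (h5 : 5 ≤ n) (h6 : n ≠ 6) (hpT : ¬ p ∣ Nat.card (Soc P))
    (h : H936.List12.LieC p n (Soc P) ∨ H936.List12.MultD p n (Soc P) ∨ (p ≠ 2 ∧ 7 ≤ n ∧ IsSz8 (Soc P))) :
    Dead n (Soc P) ∨ (n = 12 ∧ (IsL 2 25 (Soc P) ∨ IsU 3 4 (Soc P))) := by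
  rcases h with h | h | ⟨-, -, h⟩
  · exact small_lie hC hn h5 h6 hpT (Or.inl h)
  · exact small_lie hC hn h5 h6 hpT (Or.inr h)
  · exact (not_sz8 hC hn hpT h).elim

end Cfsg.Agent.H530.HT
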