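import Cfsg.Agent.H530.HT.PSpNum
import Cfsg.Agent.H337.HT.Num
import Cfsg.Agent.H936.List12
import Cfsg.Agent.H902.Names
import Cfsg.Agent.S0814

/-!
# S3540, B3: the rows `PSp` (helper530)
-/

set_option autoImplicit false
set_option linter.unusedSectionVars false

universe u v

namespace Cfsg.Agent.H530.HT

open Cfsg Cfsg.Agent.H915.LD Cfsg.Agent.H337.HT Finset

section card

variable {K : Type} [Field K] [Fintype K] {m p f : ℕ}

theorem card_psp_eq (hp : p.Prime) (hf : 1 ≤ f) (hF : Fintype.card K = p ^ f) (hm : 2 ≤ m) (hm2 : m = 2 → 3 ≤ p ^ f) :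
    Nat.gcd 2 (p ^ f - 1) * Nat.card (PSp m K) = (p ^ f) ^ (m ^ 2) * ∏ i ∈ range m, ((p ^ f) ^ (2 * (i + 1)) - 1) :=
  (H902.Names.psp_real hp hf hF hm hm2).eq

theorem prod_le (s m : ℕ) : ∏ i ∈ range m, (s ^ (2 * (i + 1)) - 1) ≤ s ^ (m ^ 2 + m) := by
  induction m with
  | zero => simp
  | succ m ih =>
    rw [prod_range_succ]
    calc (∏ i ∈ range m, (s ^ (2 * (i + 1)) - 1)) * (s ^ (2 * (m + 1)) - 1)
        ≤ s ^ (m ^ 2 + m) * s ^ (2 * (m + 1)) := Nat.mul_le_mul ih (Nat.sub_le _ _)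
      _ = s ^ ((m + 1) ^ 2 + (m + 1)) := by rw [← pow_add]; congr 1; ring

theorem aut_sq_le (hp : p.Prime) (hf : 1 ≤ f) (hF : Fintype.card K = p ^ f) (hm : 2 ≤ m) (hm2 : m = 2 → 3 ≤ p ^ f) :
    Nat.card (MulAut (PSp m K)) ^ 2 ≤ (p ^ f) ^ EE m := by
  have : Fact p.Prime := ⟨hp⟩
  have h1 := Cfsg.Agent.S0814.result p f hf hF m hm hm2
  have h2 := card_psp_eq hp hf hF hm hm2
  have h3 : (if m = 2 ∧ p = 2 then 2 else 1) * f ≤ p ^ f := by
    split_ifs with h
    · rw [h.2]
      have : ∀ k, 1 ≤ k → 2 * k ≤ 2 ^ k := by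
        intro k hk
        induction k, hk using Nat.le_induction with
        | base => norm_num
        | succ k hk ih =>
          rw [pow_succ]
          omega
      exact this f hf
    · rw [one_mul]
      exact (Nat.lt_pow_self hp.one_lt).le
  have h4 : Nat.card (MulAut (PSp m K)) ≤ (p ^ f) ^ (2 * m ^ 2 + m + 1) := by
    calc Nat.card (MulAut (PSp m K)) =
        ((if m = 2 ∧ p = 2 then 2 else 1) * f) * (Nat.gcd 2 (p ^ f - 1) * Nat.card (PSp m K)) := by
          rw [h1]; ring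
      _ ≤ p ^ f * ((p ^ f) ^ (m ^ 2) * (p ^ f) ^ (m ^ 2 + m)) := by
          refine Nat.mul_le_mul h3 ?_
          rw [h2]
          exact Nat.mul_le_mul_left _ (prod_le _ _)
      _ = (p ^ f) ^ (2 * m ^ 2 + m + 1) := by
          rw [← pow_add, ← pow_succ']
          congr 1
          ring
  calc Nat.card (MulAut (PSp m K)) ^ 2 ≤ ((p ^ f) ^ (2 * m ^ 2 + m + 1)) ^ 2 := Nat.pow_le_pow_left h4 2
    _ = (p ^ f) ^ EE m := by
      rw [← pow_mul]
      congr 1
      unfold EE
      ring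

/-- `2`, `3`, `5` divide the order -/
theorem dvd_card (hp : p.Prime) (hf : 1 ≤ f) (hF : Fintype.card K = p ^ f) (hm : 2 ≤ m) (hm2 : m = 2 → 3 ≤ p ^ f) :
    2 ∣ Nat.card (PSp m K) ∧ 3 ∣ Nat.card (PSp m K) ∧ 5 ∣ Nat.card (PSp m K) := by
  have h2 := card_psp_eq hp hf hF hm hm2
  set s := p ^ f with hs
  have hs2 : 2 ≤ s := hp.two_le.trans (Nat.le_self_pow (by omega) p)
  have hdvd : s * ((s ^ 2 - 1) * (s ^ 4 - 1)) ∣ s ^ (m ^ 2) * ∏ i ∈ range m, (s ^ (2 * (i + 1)) - 1) := by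
    refine Nat.mul_dvd_mul (dvd_pow_self s (by positivity)) ?_
    have h3 : ∏ i ∈ range 2, (s ^ (2 * (i + 1)) - 1) = (s ^ 2 - 1) * (s ^ 4 - 1) := by
      rw [prod_range_succ, prod_range_succ, range_zero, prod_empty, one_mul]
    rw [← h3]
    exact prod_dvd_prod_of_subset _ _ _ (range_subset_range.2 hm)
  rw [← h2] at hdvd
  have h3 : 3 ∣ s * ((s ^ 2 - 1) * (s ^ 4 - 1)) := by
    have h5 : s % 3 = 0 ∨ s % 3 = 1 ∨ s % 3 = 2 := by omega
    rcases h5 with h5 | h5 | h5
    · exact Dvd.dvd.mul_right (Nat.dvd_of_mod_eq_zero h5) _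
    · refine Dvd.dvd.mul_left (Dvd.dvd.mul_right ?_ _) _
      rw [← Nat.modEq_iff_dvd' (Nat.one_le_pow _ _ (by omega))]
      exact ((show s ≡ 1 [MOD 3] from h5).pow 2).symm
    · refine Dvd.dvd.mul_left (Dvd.dvd.mul_right ?_ _) _
      rw [← Nat.modEq_iff_dvd' (Nat.one_le_pow _ _ (by omega))]
      exact ((show s ≡ 2 [MOD 3] from h5).pow 2).symm
  have h5 : 5 ∣ s * ((s ^ 2 - 1) * (s ^ 4 - 1)) := by
    have h5 : s % 5 = 0 ∨ s % 5 = 1 ∨ s % 5 = 2 ∨ s % 5 = 3 ∨ s % 5 = 4 := by omega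
    rcases h5 with h5 | h5 | h5 | h5 | h5
    · exact Dvd.dvd.mul_right (Nat.dvd_of_mod_eq_zero h5) _
    all_goals
      refine Dvd.dvd.mul_left (Dvd.dvd.mul_left ?_ _) _
      rw [← Nat.modEq_iff_dvd' (Nat.one_le_pow _ _ (by omega))]
    · exact ((show s ≡ 1 [MOD 5] from h5).pow 4).symm
    · exact ((show s ≡ 2 [MOD 5] from h5).pow 4).symm
    · exact ((show s ≡ 3 [MOD 5] from h5).pow 4).symm
    · exact ((show s ≡ 4 [MOD 5] from h5).pow 4).symm
  have hg : Nat.gcd 2 (s - 1) ∣ 2 := Nat.gcd_dvd_left _ _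
  refine ⟨?_, ?_, ?_⟩
  · rcases Nat.even_or_odd s with he | ho
    · have h6 : Nat.gcd 2 (s - 1) = 1 := by
        have h7 : Nat.Coprime 2 (s - 1) := by
          rw [Nat.coprime_two_left]
          obtain ⟨k, hk⟩ := he
          exact ⟨k - 1, by omega⟩
        exact h7
      rw [h6, one_mul] at hdvd
      exact ((even_iff_two_dvd.1 he).mul_right _).trans hdvd
    · obtain ⟨k, hk⟩ := ho
      have h6 : 4 ∣ s * ((s ^ 2 - 1) * (s ^ 4 - 1)) := by
        refine Dvd.dvd.mul_left ?_ _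
        have h7 : 2 ∣ s ^ 2 - 1 := by
          rw [← Nat.modEq_iff_dvd' (Nat.one_le_pow _ _ (by omega))]
          exact ((show s ≡ 1 [MOD 2] by unfold Nat.ModEq; omega).pow 2).symm
        have h8 : 2 ∣ s ^ 4 - 1 := by
          rw [← Nat.modEq_iff_dvd' (Nat.one_le_pow _ _ (by omega))]
          exact ((show s ≡ 1 [MOD 2] by unfold Nat.ModEq; omega).pow 4).symm
        exact Nat.mul_dvd_mul h7 h8
      have h7 : 2 * 2 ∣ 2 * Nat.card (PSp m K) := (h6.trans hdvd).trans (Nat.mul_dvd_mul_right hg _)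
      exact Nat.dvd_of_mul_dvd_mul_left (by norm_num) h7
  · have h6 : 3 ∣ Nat.gcd 2 (s - 1) * Nat.card (PSp m K) := h3.trans hdvd
    rcases (Nat.Prime.dvd_mul (by norm_num)).1 h6 with h7 | h7
    · have := h7.trans hg
      norm_num at this
    · exact h7
  · have h6 : 5 ∣ Nat.gcd 2 (s - 1) * Nat.card (PSp m K) := h5.trans hdvd
    rcases (Nat.Prime.dvd_mul (by norm_num)).1 h6 with h7 | h7
    · have := h7.trans hg
      norm_num at this
    · exact h7

theorem seven_le {T : Type*} [Group T] (e : T ≃* PSp m K) (hp : p.Prime) (hf : 1 ≤ f) (hF : Fintype.card K = p ^ f)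
    (hm : 2 ≤ m) (hm2 : m = 2 → 3 ≤ p ^ f) (q : ℕ) (hq : 2 ≤ q) (hc : q.Coprime (Nat.card T)) : 7 ≤ q := by
  rw [Nat.card_congr e.toEquiv] at hc
  obtain ⟨h2, h3, h5⟩ := dvd_card hp hf hF hm hm2
  by_contra hcon
  have h : ∀ d, 2 ≤ d → d ∣ q → ¬ d ∣ Nat.card (PSp m K) := by
    intro d hd hdq hdc
    have := Nat.dvd_gcd hdq hdc
    rw [hc] at this
    have := Nat.le_of_dvd one_pos this
    omega
  interval_cases q
  · exact h 2 le_rfl (dvd_refl 2) h2
  · exact h 3 (by norm_num) (dvd_refl 3) h3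
  · exact h 2 le_rfl (by norm_num) h2
  · exact h 5 (by norm_num) (dvd_refl 5) h5
  · exact h 2 le_rfl (by norm_num) h2

/-- the orders for a given field -/
theorem psp_data {s N : ℕ} (hF : Fintype.card K = s) (hm : 2 ≤ m) (hm2 : m = 2 → 3 ≤ s) (r f : ℕ) (hr : r.Prime)
    (hf : 1 ≤ f) (hs : s = r ^ f) (hN : Nat.gcd 2 (s - 1) * N = s ^ (m ^ 2) * ∏ i ∈ range m, (s ^ (2 * (i + 1)) - 1)) :
    Nat.card (PSp m K) = N ∧
      Nat.card (MulAut (PSp m K)) = (if m = 2 ∧ r = 2 then 2 else 1) * Nat.gcd 2 (s - 1) * f * N := by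
  have : Fact r.Prime := ⟨hr⟩
  subst hs
  have h1 := card_psp_eq hr hf hF hm hm2
  rw [← hN] at h1
  have h2 : Nat.card (PSp m K) = N := Nat.eq_of_mul_eq_mul_left (Nat.gcd_pos_of_pos_left _ (by norm_num)) h1
  refine ⟨h2, ?_⟩
  rw [Cfsg.Agent.S0814.result r f hf hF m hm hm2, h2]

theorem dead_of_data {T : Type*} [Group T] (e : T ≃* PSp m K) {s N A n₀ n : ℕ} (hF : Fintype.card K = s)
    (hm : 2 ≤ m) (hm2 : m = 2 → 3 ≤ s) (r f : ℕ) (hr : r.Prime) (hf : 1 ≤ f) (hs : s = r ^ f)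
    (hN : Nat.gcd 2 (s - 1) * N = s ^ (m ^ 2) * ∏ i ∈ range m, (s ^ (2 * (i + 1)) - 1))
    (hA : (if m = 2 ∧ r = 2 then 2 else 1) * Nat.gcd 2 (s - 1) * f * N = A) (q₀ fq fn : ℕ) (hA0 : 0 < A) (h2 : 2 ≤ q₀)
    (hn₀ : 2 ≤ n₀) (h1 : (List.range q₀).all (fun q => Nat.ble q 1 || Nat.ble 2 (Nat.gcd q N)) = true)
    (h : loopN N A q₀ fq fn n₀ = true) (hn : n₀ ≤ n) : Dead n T := by
  obtain ⟨h3, h4⟩ := psp_data hF hm hm2 r f hr hf hs hN
  rw [hA] at h4
  exact sieve_dead q₀ fq fn ((Nat.card_congr e.toEquiv).trans h3) ((Nat.card_congr (MulAut.congr e).toEquiv).trans h4)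
    hA0 h2 hn₀ h1 h hn

end card

section main

variable {F : Type u} [Field F] [Finite F] {n p : ℕ} [Fact p.Prime] [CharP F p]
  {P : Subgroup (Matrix.GeneralLinearGroup (Fin n) F)}

/-- **B3.** -/
theorem dead_psp (hC : Core P) (hn : 13 ≤ n) (hp : ¬ p ∣ Nat.card (Soc P)) (hT : Cfsg.IsPSp (Soc P)) :
    Dead n (Soc P) := by
  have hsim : IsSimpleGroup (Soc P) := hC.simple
  have hpp : p.Prime := Fact.out
  obtain ⟨K, _, _, m, hm, hm2, ⟨e⟩⟩ := hT
  obtain ⟨r, hchar⟩ := CharP.exists K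
  have hr : r.Prime := CharP.char_is_prime K r
  have hrf : Fact r.Prime := ⟨hr⟩
  obtain ⟨f, -, hF⟩ := FiniteField.card K r
  have hf : 1 ≤ (f : ℕ) := f.pos
  have hm2' : m = 2 → 3 ≤ r ^ (f : ℕ) := fun h => by
    rw [← hF]
    exact hm2 h
  have hrp : r ≠ p := by
    rintro rfl
    apply hp
    rw [Nat.card_congr e.toEquiv]
    have h1 := card_psp_eq hr hf hF hm hm2'
    have h2 : r ∣ Nat.gcd 2 (r ^ (f : ℕ) - 1) * Nat.card (PSp m K) := by
      rw [h1]
      exact Dvd.dvd.mul_right (dvd_pow (dvd_pow_self r (by omega)) (by positivity)) _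
    rcases hr.dvd_mul.1 h2 with h3 | h3
    · exfalso
      have h4 := H912.Bd.coprime_gcd_sub (n := 2) hr (pow_pos hr.pos _) (dvd_pow_self r (show (f : ℕ) ≠ 0 by omega))
      have h5 := Nat.dvd_gcd h3 (dvd_refl r)
      rw [h4] at h5
      exact hr.one_lt.ne' (Nat.dvd_one.1 h5)
    · exact h3
  have hrF : (r : F) ≠ 0 := H936.List12.cast_ne hr hrp
  set s := Fintype.card K with hs
  have hs2 : 2 ≤ s := Fintype.one_lt_card
  -- the sieve without degree bound
  by_cases c1 : m = 3 ∧ s = 2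
  · obtain ⟨rfl, h⟩ := c1
    exact dead_of_data e (n₀ := 13) (N := 1451520) (A := 1451520) h (by norm_num) (by norm_num) 2 1 (by norm_num) le_rfl
      (by norm_num) (by decide) (by decide) 11 60 30 (by norm_num) (by norm_num) (by norm_num) (by decide) (by decide) hn
  -- the degree bounds
  have hNoR : H912.Bd.NoR.{u} r (Soc P) :=
    (H912.Bd.NoR.of_cyclic (S2092.result (F := K) rfl m hm hm2 c1)
      (H912.Bd.coprime_gcd_sub hr Fintype.card_pos (H912.Bd.char_dvd_card K))).congr e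
  have hPR : H912.Bd.PR F n r (Soc P) := H912.Bd.PR.of_noR hNoR P hC.perfect (MulEquiv.refl _)
  have hle : (s ^ m - 1) / 2 ≤ n := H175.BdSp.bd_psp (F := F) hr rfl (by omega) hrF e n hPR
  have hle2 : r = 2 → s ^ m - 1 ≤ n := by
    intro h2
    subst h2
    exact H175.BdSp.bd_psp_even (F := F) rfl (by omega) (by exact_mod_cast hrF) e n hPR
  have hpos : 0 < s ^ m := pow_pos (by omega) _
  have haut : Nat.card (MulAut (Soc P)) ^ 2 ≤ s ^ EE m := by
    rw [Nat.card_congr (MulAut.congr e).toEquiv, hF]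
    exact aut_sq_le hr hf hF hm hm2'
  have hdead : s ^ EE m ≤ 2 * 7 ^ (n - 2) → Dead n (Soc P) := fun h =>
    dead_of_pow (by omega) (seven_le e hr hf hF hm hm2') (haut.trans h)
  rcases hr.eq_two_or_odd' with h2 | hodd
  · -- characteristic two
    have hse : Even s := by
      rw [hF, h2]
      exact even_two.pow_of_ne_zero (by omega)
    have hle3 := hle2 h2
    by_cases c2 : m = 2 ∧ s = 4
    · obtain ⟨rfl, h⟩ := c2
      exact dead_of_data e (n₀ := 13) (N := 979200) (A := 3916800) h (by norm_num) (by norm_num) 2 2 (by norm_num)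
        (by norm_num) (by norm_num) (by decide) (by decide) 7 60 30 (by norm_num) (by norm_num) (by norm_num) (by decide)
        (by decide) hn
    by_cases c3 : m = 4 ∧ s = 2
    · obtain ⟨rfl, h⟩ := c3
      rw [h] at hle3
      exact dead_of_data e (n₀ := 15) (N := 47377612800) (A := 47377612800) h (by norm_num) (by norm_num) 2 1
        (by norm_num) (by norm_num) (by norm_num) (by decide) (by decide) 11 60 30 (by norm_num) (by norm_num)
        (by norm_num) (by decide) (by decide) (by norm_num at hle3; exact hle3)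
    by_cases c4 : m = 5 ∧ s = 2
    · obtain ⟨rfl, h⟩ := c4
      rw [h] at hle3
      exact dead_of_data e (n₀ := 31) (N := 24815256521932800) (A := 24815256521932800) h (by norm_num) (by norm_num) 2 1
        (by norm_num) (by norm_num) (by norm_num) (by decide) (by decide) 13 60 30 (by norm_num) (by norm_num)
        (by norm_num) (by decide) (by decide) (by norm_num at hle3; exact hle3)
    apply hdead
    refine even_ineq hs2 hm ?_ ?_ ?_ ?_ ?_ ?_ (by omega)
    · intro h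
      have h3 : m ≠ 2 := fun h3 => by
        have := hm2 h3
        omega
      have h4 : m ≠ 3 := fun h3 => c1 ⟨h3, h⟩
      have h5 : m ≠ 4 := fun h3 => c3 ⟨h3, h⟩
      have h6 : m ≠ 5 := fun h3 => c4 ⟨h3, h⟩
      omega
    · intro h
      have h3 : m ≠ 2 := fun h3 => c2 ⟨h3, h⟩
      omega
    · rintro h
      rw [h] at hse
      exact absurd hse (by decide)
    · rintro h
      rw [h] at hse
      exact absurd hse (by decide)
    · -- `6` is not a prime power
      intro h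
      rw [hF, h2] at h
      have h3 : 3 ∣ 2 ^ (f : ℕ) := by rw [h]; norm_num
      have := Nat.prime_three.dvd_of_dvd_pow h3
      norm_num at this
    · rintro h
      rw [h] at hse
      exact absurd hse (by decide)
  · have hso : Odd s := by
      rw [hF]
      exact hodd.pow
    have hpo : Odd (s ^ m) := hso.pow
    have hle3 : s ^ m ≤ 2 * n + 1 := by
      obtain ⟨k, hk⟩ := hpo
      omega
    by_cases c2 : m = 2 ∧ s = 3
    · obtain ⟨rfl, h⟩ := c2
      exact dead_of_data e (n₀ := 13) (N := 25920) (A := 51840) h (by norm_num) (by norm_num) 3 1 (by norm_num)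
        (by norm_num) (by norm_num) (by decide) (by decide) 7 60 30 (by norm_num) (by norm_num) (by norm_num) (by decide)
        (by decide) hn
    by_cases c3 : m = 3 ∧ s = 3
    · obtain ⟨rfl, h⟩ := c3
      exact dead_of_data e (n₀ := 13) (N := 4585351680) (A := 9170703360) h (by norm_num) (by norm_num) 3 1
        (by norm_num) (by norm_num) (by norm_num) (by decide) (by decide) 11 200 30 (by norm_num) (by norm_num)
        (by norm_num) (by decide) (by decide) hn
    by_cases c4 : m = 4 ∧ s = 3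
    · obtain ⟨rfl, h⟩ := c4
      rw [h] at hle3
      exact dead_of_data e (n₀ := 40) (N := 65784756654489600) (A := 131569513308979200) h (by norm_num) (by norm_num) 3 1
        (by norm_num) (by norm_num) (by norm_num) (by decide) (by decide) 11 60 30 (by norm_num) (by norm_num)
        (by norm_num) (by decide) (by decide) (by norm_num at hle3; omega)
    by_cases c5 : m = 2 ∧ s = 5
    · obtain ⟨rfl, h⟩ := c5
      exact dead_of_data e (n₀ := 13) (N := 4680000) (A := 9360000) h (by norm_num) (by norm_num) 5 1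
        (by norm_num) (by norm_num) (by norm_num) (by decide) (by decide) 7 60 30 (by norm_num) (by norm_num)
        (by norm_num) (by decide) (by decide) hn
    apply hdead
    refine odd_ineq ?_ hm ?_ ?_ ?_ ?_ ?_ hle3
    · obtain ⟨k, hk⟩ := hso
      omega
    · intro h
      have h3 : m ≠ 2 := fun h3 => c2 ⟨h3, h⟩
      have h4 : m ≠ 3 := fun h3 => c3 ⟨h3, h⟩
      have h5 : m ≠ 4 := fun h3 => c4 ⟨h3, h⟩
      omega
    · intro h
      have h3 : m ≠ 2 := fun h3 => c5 ⟨h3, h⟩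
      omega
    all_goals
      intro h
      rw [h] at hso
      exact absurd hso (by decide)

end main

end Cfsg.Agent.H530.HT
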