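import Mathlib

/-!
# S3512, PB3: the numerical inequalities for `PSp_2m(s)`, `p ∣ |T|` (helper530)
-/

set_option autoImplicit false

namespace Cfsg.Agent.H530.HT.PN

/-- the exponents -/
def EO (m : ℕ) : ℕ := 4 * m ^ 2 + 2 * m + 1
def EV (m : ℕ) : ℕ := 4 * m ^ 2 + 2 * m + 2

theorem EO_succ {m : ℕ} (hm : 2 ≤ m) : EO (m + 1) ≤ 3 * EO m := by
  unfold EO
  nlinarith

theorem EV_succ {m : ℕ} (hm : 2 ≤ m) : EV (m + 1) ≤ 2 * EV m := by
  unfold EV
  nlinarith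

theorem growO {s a m₀ : ℕ} (hs : 3 ≤ s) (hm₀ : 2 ≤ m₀) (h0 : 2 * a * EO m₀ + 7 ≤ s ^ m₀) :
    ∀ m, m₀ ≤ m → 2 * a * EO m + 7 ≤ s ^ m := by
  intro m hm
  induction m, hm using Nat.le_induction with
  | base => exact h0
  | succ m hm ih =>
    have h1 := EO_succ (hm₀.trans hm)
    have h2 : 2 * a * EO (m + 1) ≤ 2 * a * (3 * EO m) := Nat.mul_le_mul_left _ h1
    have h3 : 3 * s ^ m ≤ s ^ (m + 1) := by
      rw [pow_succ, mul_comm]
      exact Nat.mul_le_mul_left _ hs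
    nlinarith

theorem growV {s a m₀ : ℕ} (hs : 2 ≤ s) (hm₀ : 2 ≤ m₀) (h0 : 2 * a * EV m₀ + 11 ≤ 3 * s ^ m₀) :
    ∀ m, m₀ ≤ m → 2 * a * EV m + 11 ≤ 3 * s ^ m := by
  intro m hm
  induction m, hm using Nat.le_induction with
  | base => exact h0
  | succ m hm ih =>
    have h1 := EV_succ (hm₀.trans hm)
    have h2 : 2 * a * EV (m + 1) ≤ 2 * a * (2 * EV m) := Nat.mul_le_mul_left _ h1
    have h3 : 2 * s ^ m ≤ s ^ (m + 1) := by
      rw [pow_succ, mul_comm]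
      exact Nat.mul_le_mul_left _ hs
    nlinarith

theorem powO {s a E x : ℕ} (hs : s ≤ 2 ^ a) (h : 1 + a * E ≤ x) : 2 * s ^ E ≤ 2 ^ x := by
  calc 2 * s ^ E ≤ 2 * (2 ^ a) ^ E := Nat.mul_le_mul_left _ (Nat.pow_le_pow_left hs E)
    _ = 2 ^ (1 + a * E) := by rw [pow_add, pow_one, pow_mul]
    _ ≤ 2 ^ x := Nat.pow_le_pow_right (by norm_num) h

theorem powV {s a E x : ℕ} (hs : s ≤ 2 ^ a) (h : 2 * (1 + a * E) ≤ 3 * x) : 2 * s ^ E ≤ 3 ^ x := by
  have h1 : (2 * s ^ E) ^ 2 ≤ (3 ^ x) ^ 2 := by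
    calc (2 * s ^ E) ^ 2 ≤ (2 ^ (1 + a * E)) ^ 2 := Nat.pow_le_pow_left (powO hs le_rfl) 2
      _ = 2 ^ (2 * (1 + a * E)) := by rw [← pow_mul]; congr 1; ring
      _ ≤ 2 ^ (3 * x) := Nat.pow_le_pow_right (by norm_num) h
      _ = 8 ^ x := by rw [pow_mul]; norm_num
      _ ≤ 9 ^ x := Nat.pow_le_pow_left (by norm_num) x
      _ = (3 ^ x) ^ 2 := by rw [← pow_mul, mul_comm, pow_mul]; norm_num
  exact (Nat.pow_le_pow_iff_left (by norm_num)).1 h1

/-- odd `s` -/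
theorem odd_ineq {s m n : ℕ} (hs : Odd s) (hs3 : 3 ≤ s) (hm : 2 ≤ m) (h3 : s = 3 → 6 ≤ m) (h5 : s = 5 → 4 ≤ m)
    (h7 : s = 7 → 3 ≤ m) (h9 : s = 9 → 3 ≤ m) (h11 : s = 11 → 3 ≤ m) (hn : s ^ m ≤ 2 * n + 1) :
    2 * s ^ EO m ≤ 2 ^ (n - 2) := by
  by_cases h13 : s = 13 ∧ m = 2
  · obtain ⟨rfl, rfl⟩ := h13
    have h1 : 82 ≤ n - 2 := by omega
    refine le_trans ?_ (Nat.pow_le_pow_right (by norm_num) h1)
    norm_num [EO]
  obtain ⟨a, ha1, ha2⟩ : ∃ a, s ≤ 2 ^ a ∧ 2 * a * EO m + 7 ≤ s ^ m := by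
    rcases Nat.lt_or_ge s 15 with h | h
    · have hcases : s = 3 ∨ s = 5 ∨ s = 7 ∨ s = 9 ∨ s = 11 ∨ s = 13 := by
        obtain ⟨k, hk⟩ := hs
        omega
      rcases hcases with rfl | rfl | rfl | rfl | rfl | rfl
      · exact ⟨2, by norm_num, growO (m₀ := 6) (by norm_num) (by norm_num) (by norm_num [EO]) m (h3 rfl)⟩
      · exact ⟨3, by norm_num, growO (m₀ := 4) (by norm_num) (by norm_num) (by norm_num [EO]) m (h5 rfl)⟩
      · exact ⟨3, by norm_num, growO (m₀ := 3) (by norm_num) (by norm_num) (by norm_num [EO]) m (h7 rfl)⟩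
      · exact ⟨4, by norm_num, growO (m₀ := 3) (by norm_num) (by norm_num) (by norm_num [EO]) m (h9 rfl)⟩
      · exact ⟨4, by norm_num, growO (m₀ := 3) (by norm_num) (by norm_num) (by norm_num [EO]) m (h11 rfl)⟩
      · have hm3 : 3 ≤ m := by
          by_contra hcon
          exact h13 ⟨rfl, by omega⟩
        exact ⟨4, by norm_num, growO (m₀ := 3) (by norm_num) (by norm_num) (by norm_num [EO]) m hm3⟩
    · refine ⟨s / 3, ?_, ?_⟩
      · have key : ∀ k, 4 ≤ k → 3 * k + 2 ≤ 2 ^ k := by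
          intro k hk
          induction k, hk using Nat.le_induction with
          | base => norm_num
          | succ k hk ih =>
            rw [pow_succ]
            omega
        have h1 := key (s / 3) (by omega)
        omega
      · refine growO (m₀ := 2) (by omega) le_rfl ?_ m hm
        have h2 : EO 2 = 21 := rfl
        rw [h2]
        have h3 : 3 * (s / 3) ≤ s := Nat.mul_div_le s 3
        nlinarith
  refine powO ha1 ?_
  have : 2 * (a * EO m) + 7 ≤ s ^ m := by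
    rw [← mul_assoc]
    exact ha2
  omega

/-- even `s` -/
theorem even_ineq {s m n : ℕ} (hs : Even s) (hs2 : 2 ≤ s) (hm : 2 ≤ m) (h2 : s = 2 → 8 ≤ m) (h4 : s = 4 → 3 ≤ m)
    (h6 : s ≠ 6) (hn : s ^ m ≤ n + 1) : 2 * s ^ EV m ≤ 3 ^ (n - 2) := by
  obtain ⟨a, ha1, ha2⟩ : ∃ a, s ≤ 2 ^ a ∧ 2 * a * EV m + 11 ≤ 3 * s ^ m := by
    rcases Nat.lt_or_ge s 10 with h | h
    · have hcases : s = 2 ∨ s = 4 ∨ s = 8 := by
        obtain ⟨k, hk⟩ := hs
        omega
      rcases hcases with rfl | rfl | rfl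
      · exact ⟨1, by norm_num, growV (m₀ := 8) (by norm_num) (by norm_num) (by norm_num [EV]) m (h2 rfl)⟩
      · exact ⟨2, by norm_num, growV (m₀ := 3) (by norm_num) (by norm_num) (by norm_num [EV]) m (h4 rfl)⟩
      · exact ⟨3, by norm_num, growV (m₀ := 2) (by norm_num) (by norm_num) (by norm_num [EV]) m hm⟩
    · refine ⟨(s + 1) / 2, ?_, ?_⟩
      · have key : ∀ k, 4 ≤ k → 2 * k ≤ 2 ^ k := by
          intro k hk
          induction k, hk using Nat.le_induction with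
          | base => norm_num
          | succ k hk ih =>
            rw [pow_succ]
            omega
        have h1 := key ((s + 1) / 2) (by omega)
        omega
      · refine growV (m₀ := 2) (by omega) le_rfl ?_ m hm
        have h2 : EV 2 = 22 := rfl
        rw [h2]
        have h3 : 2 * ((s + 1) / 2) ≤ s + 1 := Nat.mul_div_le _ 2
        nlinarith
  refine powV ha1 ?_
  have h1 : 2 * (a * EV m) + 11 ≤ 3 * s ^ m := by
    rw [← mul_assoc]
    exact ha2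
  omega

end Cfsg.Agent.H530.HT.PN
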