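import Cfsg.Agent.H530.HT.PSp
import Cfsg.Agent.H530.HT.PSpPNum
import Cfsg.Agent.H337.HT.NumP
import Cfsg.Agent.H337.HT.TabP
import Cfsg.Prelude.Def_LieTypeChar

/-!
# S3512, PB3: the rows `PSp`, `p` divides the order (helper530)
-/

set_option autoImplicit false
set_option linter.unusedSectionVars false

universe u v

namespace Cfsg.Agent.H530.HT

open Cfsg Cfsg.Agent.H915.LD Cfsg.Agent.H337.HT Finset

section card

variable {K : Type} [Field K] [Fintype K] {m p f : ℕ}

theorem aut_sq_le_odd (hp : p.Prime) (hp3 : 3 ≤ p) (hf : 1 ≤ f) (hF : Fintype.card K = p ^ f) (hm : 2 ≤ m)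
    (hm2 : m = 2 → 3 ≤ p ^ f) : Nat.card (MulAut (PSp m K)) ^ 2 ≤ (p ^ f) ^ PN.EO m := by
  have : Fact p.Prime := ⟨hp⟩
  have h1 := Cfsg.Agent.S0814.result p f hf hF m hm hm2
  have h2 := card_psp_eq hp hf hF hm hm2
  have hne : ¬ (m = 2 ∧ p = 2) := by
    rintro ⟨-, h⟩
    omega
  rw [if_neg hne, one_mul] at h1
  have h3 : f ^ 2 ≤ p ^ f := by
    have h4 : ∀ k, 1 ≤ k → k ^ 2 ≤ 3 ^ k := by
      intro k hk
      induction k, hk using Nat.le_induction with
      | base => norm_num
      | succ k hk ih =>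
        rcases hk.eq_or_lt with h | h
        · subst h
          norm_num
        · rw [pow_succ 3]
          nlinarith
    exact (h4 f hf).trans (Nat.pow_le_pow_left hp3 f)
  have h4 : Nat.card (MulAut (PSp m K)) ≤ f * (p ^ f) ^ (2 * m ^ 2 + m) := by
    calc Nat.card (MulAut (PSp m K)) =
        f * (Nat.gcd 2 (p ^ f - 1) * Nat.card (PSp m K)) := by
          rw [h1]; ring
      _ ≤ f * ((p ^ f) ^ (m ^ 2) * (p ^ f) ^ (m ^ 2 + m)) := by
          refine Nat.mul_le_mul_left _ ?_
          rw [h2]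
          exact Nat.mul_le_mul_left _ (prod_le _ _)
      _ = f * (p ^ f) ^ (2 * m ^ 2 + m) := by
          rw [← pow_add]
          congr 2
          ring
  calc Nat.card (MulAut (PSp m K)) ^ 2 ≤ (f * (p ^ f) ^ (2 * m ^ 2 + m)) ^ 2 := Nat.pow_le_pow_left h4 2
    _ = f ^ 2 * (p ^ f) ^ (2 * (2 * m ^ 2 + m)) := by rw [mul_pow, ← pow_mul]; congr 2; ring
    _ ≤ p ^ f * (p ^ f) ^ (2 * (2 * m ^ 2 + m)) := Nat.mul_le_mul_right _ h3
    _ = (p ^ f) ^ PN.EO m := by
      rw [← pow_succ']
      congr 1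
      unfold PN.EO
      ring

theorem deadP_of_data {T : Type*} [Group T] (e : T ≃* PSp m K) {s N A n₀ n p : ℕ} (hF : Fintype.card K = s)
    (hm : 2 ≤ m) (hm2 : m = 2 → 3 ≤ s) (r f : ℕ) (hr : r.Prime) (hf : 1 ≤ f) (hs : s = r ^ f)
    (hN : Nat.gcd 2 (s - 1) * N = s ^ (m ^ 2) * ∏ i ∈ range m, (s ^ (2 * (i + 1)) - 1))
    (hA : (if m = 2 ∧ r = 2 then 2 else 1) * Nat.gcd 2 (s - 1) * f * N = A) (ps : List ℕ)
    (hps : ∀ p ∈ r :: ps, p.Prime) (hc : chkP r ps N A n₀ = true) (hp : p.Prime) (hd : p ∣ Nat.card T) (hpr : p ≠ r)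
    (hn : n₀ ≤ n) : DeadP p n T := by
  obtain ⟨h3, h4⟩ := psp_data hF hm hm2 r f hr hf hs hN
  rw [hA] at h4
  exact deadP_sieve r ps ((Nat.card_congr e.toEquiv).trans h3)
    (dvd_of_eq ((Nat.card_congr (MulAut.congr e).toEquiv).trans h4)) hps hc hp hd hpr hn

end card

section main

variable {F : Type u} [Field F] [Finite F] {n p : ℕ} [Fact p.Prime] [CharP F p]
  {P : Subgroup (Matrix.GeneralLinearGroup (Fin n) F)}

set_option maxRecDepth 100000 in
/-- PSp4(3) -/
theorem psp4_3 : chkP 3 [2, 5] 25920 51840 13 = true := by decide +kernel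

/-- **PB3.** -/
theorem deadP_psp (hC : Core P) (hn : 13 ≤ n) (hp : p ∣ Nat.card (Soc P))
    (hL : ¬ Cfsg.IsLieTypeChar p (Soc P)) (hT : Cfsg.IsPSp (Soc P)) : DeadP p n (Soc P) := by
  have hsim : IsSimpleGroup (Soc P) := hC.simple
  have hpp : p.Prime := Fact.out
  obtain ⟨K, _, _, m, hm, hm2, ⟨e⟩⟩ := hT
  obtain ⟨r, hchar⟩ := CharP.exists K
  have hr : r.Prime := CharP.char_is_prime K r
  have hrf : Fact r.Prime := ⟨hr⟩
  obtain ⟨f, -, hF⟩ := FiniteField.card K r
  have hf : 1 ≤ (f : ℕ) := f.pos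
  have hm2' : m = 2 → 3 ≤ r ^ (f : ℕ) := fun h => by
    rw [← hF]
    exact hm2 h
  have hrp : r ≠ p := by
    rintro rfl
    exact hL (Or.inr (Or.inl ⟨K, inferInstance, inferInstance, hchar, m, hm, hm2, ⟨e⟩⟩))
  have hpr : p ≠ r := hrp.symm
  have hrF : (r : F) ≠ 0 := H936.List12.cast_ne hr hrp
  set s := Fintype.card K with hs
  have hs2 : 2 ≤ s := Fintype.one_lt_card
  -- the sieve without degree bound
  by_cases c1 : m = 3 ∧ s = 2
  · obtain ⟨rfl, h⟩ := c1
    have h1 : r ∣ 2 := by
      rw [← h, hF]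
      exact dvd_pow_self r (by omega)
    have h2 : r = 2 := (Nat.prime_dvd_prime_iff_eq hr Nat.prime_two).1 h1
    exact deadP_of_data e (n₀ := 13) (N := 1451520) (A := 1451520) h (by norm_num) (by norm_num) 2 1 (by norm_num) le_rfl
      (by norm_num) (by decide) (by decide) _ (by norm_num) TabP.psp6_2 hpp hp (by rw [← h2]; exact hpr) hn
  -- the degree bounds
  have hNoR : H912.Bd.NoR.{u} r (Soc P) :=
    (H912.Bd.NoR.of_cyclic (S2092.result (F := K) rfl m hm hm2 c1)
      (H912.Bd.coprime_gcd_sub hr Fintype.card_pos (H912.Bd.char_dvd_card K))).congr e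
  have hPR : H912.Bd.PR F n r (Soc P) := H912.Bd.PR.of_noR hNoR P hC.perfect (MulEquiv.refl _)
  have hle : (s ^ m - 1) / 2 ≤ n := H175.BdSp.bd_psp (F := F) hr rfl (by omega) hrF e n hPR
  have hle2 : r = 2 → s ^ m - 1 ≤ n := by
    intro h2
    subst h2
    exact H175.BdSp.bd_psp_even (F := F) rfl (by omega) (by exact_mod_cast hrF) e n hPR
  have hpos : 0 < s ^ m := pow_pos (by omega) _
  have hcT : Nat.card (MulAut (Soc P)) = Nat.card (MulAut (PSp m K)) := Nat.card_congr (MulAut.congr e).toEquiv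
  have hA0 : 0 < Nat.card (MulAut (Soc P)) := Nat.card_pos
  rcases hr.eq_two_or_odd' with h2 | hodd
  · -- characteristic two
    have hse : Even s := by
      rw [hF, h2]
      exact even_two.pow_of_ne_zero (by omega)
    have hle3 := hle2 h2
    have hp2 : p ≠ 2 := by
      rw [← h2]
      exact hpr
    by_cases c2 : m = 2 ∧ s = 4
    · obtain ⟨rfl, h⟩ := c2
      rw [h] at hle3
      exact deadP_of_data e (n₀ := 15) (N := 979200) (A := 3916800) h (by norm_num) (by norm_num) 2 2 (by norm_num)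
        (by norm_num) (by norm_num) (by decide) (by decide) _ (by norm_num) TabP.psp4_4 hpp hp hp2
        (by norm_num at hle3; exact hle3)
    by_cases c3 : m = 4 ∧ s = 2
    · obtain ⟨rfl, h⟩ := c3
      rw [h] at hle3
      exact deadP_of_data e (n₀ := 15) (N := 47377612800) (A := 47377612800) h (by norm_num) (by norm_num) 2 1
        (by norm_num) (by norm_num) (by norm_num) (by decide) (by decide) _ (by norm_num) TabP.psp8_2 hpp hp hp2
        (by norm_num at hle3; exact hle3)
    by_cases c4 : m = 5 ∧ s = 2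
    · obtain ⟨rfl, h⟩ := c4
      rw [h] at hle3
      exact deadP_of_data e (n₀ := 31) (N := 24815256521932800) (A := 24815256521932800) h (by norm_num) (by norm_num)
        2 1 (by norm_num) (by norm_num) (by norm_num) (by decide) (by decide) _ (by norm_num) TabP.psp10_2 hpp hp hp2
        (by norm_num at hle3; exact hle3)
    by_cases c5 : m = 6 ∧ s = 2
    · obtain ⟨rfl, h⟩ := c5
      rw [h] at hle3
      exact deadP_of_data e (n₀ := 63) (N := 208114637736580743168000) (A := 208114637736580743168000) h (by norm_num)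
        (by norm_num) 2 1 (by norm_num) (by norm_num) (by norm_num) (by decide +kernel) (by decide +kernel) _
        (by norm_num) TabP.psp12_2 hpp hp hp2 (by norm_num at hle3; exact hle3)
    by_cases c6 : m = 7 ∧ s = 2
    · obtain ⟨rfl, h⟩ := c6
      rw [h] at hle3
      exact deadP_of_data e (n₀ := 127) (N := 27930968965434591767112450048000) (A := 27930968965434591767112450048000) h
        (by norm_num) (by norm_num) 2 1 (by norm_num) (by norm_num) (by norm_num) (by decide +kernel)
        (by decide +kernel) _ (by norm_num) TabP.psp14_2 hpp hp hp2 (by norm_num at hle3; exact hle3)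
    have hp3 : 3 ≤ p := by
      have := hpp.two_le
      omega
    refine deadP_of_pow hpp (by omega) hp3 le_rfl hA0 ?_
    have haut : Nat.card (MulAut (Soc P)) ^ 2 ≤ s ^ PN.EV m := by
      rw [hcT, hF]
      exact aut_sq_le hr hf hF hm hm2'
    refine (Nat.mul_le_mul_left 2 haut).trans (PN.even_ineq hse hs2 hm ?_ ?_ ?_ (by omega))
    · intro h
      have h3 : m ≠ 2 := fun h3 => by
        have := hm2 h3
        omega
      have h4 : m ≠ 3 := fun h3 => c1 ⟨h3, h⟩
      have h5 : m ≠ 4 := fun h3 => c3 ⟨h3, h⟩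
      have h6 : m ≠ 5 := fun h3 => c4 ⟨h3, h⟩
      have h7 : m ≠ 6 := fun h3 => c5 ⟨h3, h⟩
      have h8 : m ≠ 7 := fun h3 => c6 ⟨h3, h⟩
      omega
    · intro h
      have h3 : m ≠ 2 := fun h3 => c2 ⟨h3, h⟩
      omega
    · -- `6` is not a prime power
      intro h
      rw [hF, h2] at h
      have h3 : 3 ∣ 2 ^ (f : ℕ) := by rw [h]; norm_num
      have := Nat.prime_three.dvd_of_dvd_pow h3
      norm_num at this
  · have hso : Odd s := by
      rw [hF]
      exact hodd.pow
    have hpo : Odd (s ^ m) := hso.pow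
    have hs3 : 3 ≤ s := by
      obtain ⟨k, hk⟩ := hso
      omega
    have hr3 : 3 ≤ r := by
      obtain ⟨k, hk⟩ := hodd
      have := hr.two_le
      omega
    have hle3 : s ^ m ≤ 2 * n + 1 := by
      obtain ⟨k, hk⟩ := hpo
      omega
    have hrs : ∀ (t g : ℕ), t.Prime → s = t ^ g → g ≠ 0 → p ≠ t := by
      intro t g ht hst hg
      have h1 : t ∣ r ^ (f : ℕ) := by
        rw [← hF, hst]
        exact dvd_pow_self t hg
      have h2 : t = r := (Nat.prime_dvd_prime_iff_eq ht hr).1 (ht.dvd_of_dvd_pow h1)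
      rw [h2]
      exact hpr
    by_cases c2 : m = 2 ∧ s = 3
    · obtain ⟨rfl, h⟩ := c2
      exact deadP_of_data e (n₀ := 13) (N := 25920) (A := 51840) h (by norm_num) (by norm_num) 3 1 (by norm_num)
        (by norm_num) (by norm_num) (by decide) (by decide) _ (by norm_num) psp4_3 hpp hp
        (hrs 3 1 (by norm_num) (by rw [h]; norm_num) one_ne_zero) hn
    by_cases c3 : m = 3 ∧ s = 3
    · obtain ⟨rfl, h⟩ := c3
      exact deadP_of_data e (n₀ := 13) (N := 4585351680) (A := 9170703360) h (by norm_num) (by norm_num) 3 1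
        (by norm_num) (by norm_num) (by norm_num) (by decide) (by decide) _ (by norm_num) TabP.psp6_3 hpp hp
        (hrs 3 1 (by norm_num) (by rw [h]; norm_num) one_ne_zero) hn
    by_cases c4 : m = 4 ∧ s = 3
    · obtain ⟨rfl, h⟩ := c4
      rw [h] at hle3
      exact deadP_of_data e (n₀ := 40) (N := 65784756654489600) (A := 131569513308979200) h (by norm_num) (by norm_num)
        3 1 (by norm_num) (by norm_num) (by norm_num) (by decide) (by decide) _ (by norm_num) TabP.psp8_3 hpp hp
        (hrs 3 1 (by norm_num) (by rw [h]; norm_num) one_ne_zero) (by norm_num at hle3; omega)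
    by_cases c5 : m = 5 ∧ s = 3
    · obtain ⟨rfl, h⟩ := c5
      rw [h] at hle3
      exact deadP_of_data e (n₀ := 121) (N := 76457792934119864313446400) (A := 152915585868239728626892800) h
        (by norm_num) (by norm_num) 3 1 (by norm_num) (by norm_num) (by norm_num) (by decide +kernel)
        (by decide +kernel) _ (by norm_num) TabP.psp10_3 hpp hp
        (hrs 3 1 (by norm_num) (by rw [h]; norm_num) one_ne_zero) (by norm_num at hle3; omega)
    by_cases c6 : m = 2 ∧ s = 5
    · obtain ⟨rfl, h⟩ := c6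
      exact deadP_of_data e (n₀ := 13) (N := 4680000) (A := 9360000) h (by norm_num) (by norm_num) 5 1
        (by norm_num) (by norm_num) (by norm_num) (by decide) (by decide) _ (by norm_num) TabP.psp4_5 hpp hp
        (hrs 5 1 (by norm_num) (by rw [h]; norm_num) one_ne_zero) hn
    by_cases c7 : m = 3 ∧ s = 5
    · obtain ⟨rfl, h⟩ := c7
      rw [h] at hle3
      exact deadP_of_data e (n₀ := 62) (N := 228501000000000) (A := 457002000000000) h (by norm_num) (by norm_num) 5 1
        (by norm_num) (by norm_num) (by norm_num) (by decide) (by decide) _ (by norm_num) TabP.psp6_5 hpp hp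
        (hrs 5 1 (by norm_num) (by rw [h]; norm_num) one_ne_zero) (by norm_num at hle3; omega)
    by_cases c8 : m = 2 ∧ s = 7
    · obtain ⟨rfl, h⟩ := c8
      rw [h] at hle3
      exact deadP_of_data e (n₀ := 24) (N := 138297600) (A := 276595200) h (by norm_num) (by norm_num) 7 1
        (by norm_num) (by norm_num) (by norm_num) (by decide) (by decide) _ (by norm_num) TabP.psp4_7 hpp hp
        (hrs 7 1 (by norm_num) (by rw [h]; norm_num) one_ne_zero) (by norm_num at hle3; omega)
    by_cases c9 : m = 2 ∧ s = 9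
    · obtain ⟨rfl, h⟩ := c9
      rw [h] at hle3
      exact deadP_of_data e (n₀ := 40) (N := 1721606400) (A := 6886425600) h (by norm_num) (by norm_num) 3 2
        (by norm_num) (by norm_num) (by norm_num) (by decide) (by decide) _ (by norm_num) TabP.psp4_9 hpp hp
        (hrs 3 2 (by norm_num) (by rw [h]; norm_num) two_ne_zero) (by norm_num at hle3; omega)
    by_cases c10 : m = 2 ∧ s = 11
    · obtain ⟨rfl, h⟩ := c10
      rw [h] at hle3
      exact deadP_of_data e (n₀ := 60) (N := 12860654400) (A := 25721308800) h (by norm_num) (by norm_num) 11 1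
        (by norm_num) (by norm_num) (by norm_num) (by decide) (by decide) _ (by norm_num) TabP.psp4_11 hpp hp
        (hrs 11 1 (by norm_num) (by rw [h]; norm_num) one_ne_zero) (by norm_num at hle3; omega)
    refine deadP_of_pow hpp (by omega) hpp.two_le le_rfl hA0 ?_
    have haut : Nat.card (MulAut (Soc P)) ^ 2 ≤ s ^ PN.EO m := by
      rw [hcT, hF]
      exact aut_sq_le_odd hr hr3 hf hF hm hm2'
    refine (Nat.mul_le_mul_left 2 haut).trans (PN.odd_ineq hso hs3 hm ?_ ?_ ?_ ?_ ?_ hle3)
    · intro h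
      have h3 : m ≠ 2 := fun h3 => c2 ⟨h3, h⟩
      have h4 : m ≠ 3 := fun h3 => c3 ⟨h3, h⟩
      have h5 : m ≠ 4 := fun h3 => c4 ⟨h3, h⟩
      have h6 : m ≠ 5 := fun h3 => c5 ⟨h3, h⟩
      omega
    · intro h
      have h3 : m ≠ 2 := fun h3 => c6 ⟨h3, h⟩
      have h4 : m ≠ 3 := fun h3 => c7 ⟨h3, h⟩
      omega
    · intro h
      have h3 : m ≠ 2 := fun h3 => c8 ⟨h3, h⟩
      omega
    · intro h
      have h3 : m ≠ 2 := fun h3 => c9 ⟨h3, h⟩
      omega
    · intro h
      have h3 : m ≠ 2 := fun h3 => c10 ⟨h3, h⟩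
      omega

end main

end Cfsg.Agent.H530.HT
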