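import Cfsg.Agent.H530.HT.SmNum
import Cfsg.Agent.H93.UG.List
import Cfsg.Agent.H348.HT.Psl
import Cfsg.Agent.H930.HT.DeadPsu
import Cfsg.Agent.H530.HT.PSp
import Cfsg.Agent.H464.L2StageOne
import Cfsg.Agent.H175.LD.Core33
import Cfsg.Agent.H936.List12b
import Cfsg.Agent.H814.SzEightCore

/-!
# S3540, S1b: groups of Lie type in degree at most `12` (helper530)

`small_lie` : `LieC`, `MultD` and `Sz(8)`, `n = 5, 7, …, 12`: `Dead n (Soc P)`, or `n = 12` and `L₂(25)`, `U₃(4)`.
-/

set_option autoImplicit false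
set_option linter.unusedSectionVars false

universe u v

namespace Cfsg.Agent.H530.HT

open Cfsg Cfsg.Agent.H915.LD Cfsg.Agent.H337.HT Cfsg.Agent.H912.Bd Cfsg.Agent.H93.UG

section cards

variable {T : Type v} [Group T]

theorem card_l2 {s N : ℕ} (h : IsL 2 s T) (hN : s * (s ^ 2 - 1) / Nat.gcd 2 (s - 1) = N) : Nat.card T = N := by
  obtain ⟨K, iF, iT, hK, ⟨e⟩⟩ := h
  rw [Nat.card_congr e.toEquiv, H348.HT.card_two hK, hN]

theorem aut_l2 {s p f N : ℕ} (h : IsL 2 s T) (hp : p.Prime) (hf : 1 ≤ f) (hs : s = p ^ f) (h4 : 4 ≤ s)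
    (hN : f * (s * (s ^ 2 - 1)) = N) : Nat.card (MulAut T) = N := by
  obtain ⟨K, iF, iT, hK, ⟨e⟩⟩ := h
  rw [Nat.card_congr (MulAut.congr e).toEquiv, H348.HT.card_aut_two hp hf (hK.trans hs) (hs ▸ h4), ← hs, hN]

theorem card_l3 {m s N : ℕ} (h : IsL m s T) (hm : 2 ≤ m) (hs : 2 ≤ s)
    (hN : Nat.gcd m (s - 1) * ((s - 1) * N) = ∏ i : Fin m, (s ^ m - s ^ (i : ℕ))) : Nat.card T = N := by
  obtain ⟨K, iF, iT, hK, ⟨e⟩⟩ := h
  rw [Nat.card_congr e.toEquiv, H348.HT.card_three hK hm hs hN]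

theorem card_u33 (h : IsU 3 3 T) : Nat.card T = 6048 := by
  obtain ⟨K, iF, iT, hK, ⟨e⟩⟩ := h
  rw [Nat.card_congr e.toEquiv, H930.HT.card_u33 hK]

theorem card_u42 (h : IsU 4 2 T) : Nat.card T = 25920 := by
  obtain ⟨K, iF, iT, hK, ⟨e⟩⟩ := h
  rw [Nat.card_congr e.toEquiv, H930.HT.card_u42 hK]

theorem card_u43 (h : IsU 4 3 T) : Nat.card T = 3265920 := by
  obtain ⟨K, iF, iT, hK, ⟨e⟩⟩ := h
  rw [Nat.card_congr e.toEquiv, H930.HT.card_u43 hK]

theorem card_u52 (h : IsU 5 2 T) : Nat.card T = 13685760 := by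
  obtain ⟨K, iF, iT, hK, ⟨e⟩⟩ := h
  rw [Nat.card_congr e.toEquiv, H930.HT.card_u52 hK]

theorem card_s25 (h : IsS 2 5 T) : Nat.card T = 4680000 := by
  obtain ⟨K, iF, iT, hK, ⟨e⟩⟩ := h
  rw [Nat.card_congr e.toEquiv]
  exact (psp_data hK (m := 2) (s := 5) (N := 4680000) le_rfl (by norm_num) 5 1 (by norm_num) le_rfl (by norm_num)
    (by norm_num [Finset.prod_range_succ])).1

theorem card_s32 (h : IsS 3 2 T) : Nat.card T = 1451520 := by
  obtain ⟨K, iF, iT, hK, ⟨e⟩⟩ := h
  rw [Nat.card_congr e.toEquiv]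
  exact (psp_data hK (m := 3) (s := 2) (N := 1451520) (by norm_num) (by norm_num) 2 1 (by norm_num) le_rfl (by norm_num)
    (by norm_num [Finset.prod_range_succ])).1

theorem card_op42 (h : IsOP 4 2 T) : Nat.card T = 174182400 := by
  obtain ⟨K, iF, iT, hK, ⟨e⟩⟩ := h
  have h1 := S0293.result hK 4 (by norm_num)
  simp only [Finset.prod_range_succ, Finset.prod_range_zero] at h1
  norm_num at h1
  rw [Nat.card_congr e.toEquiv]
  exact h1

theorem card_g24 (h : H912.Bd.IsG2 4 T) : Nat.card T = 251596800 := by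
  obtain ⟨K, iF, iT, hK, ⟨e⟩⟩ := h
  have h2 := S1059.result (F := K) hK
  norm_num at h2
  rw [Nat.card_congr e.toEquiv]
  exact h2

/-- the set of degrees -/
theorem dead_mem {o A n : ℕ} {T : Type v} [Group T] (ns : List ℕ) (q₀ fq : ℕ) (ho : Nat.card T = o)
    (hA : Nat.card (MulAut T) = A) (hA0 : 0 < A) (h2 : 2 ≤ q₀) (hns : ns.all (fun n => Nat.ble 2 n) = true)
    (h1 : (List.range q₀).all (fun q => Nat.ble q 1 || Nat.ble 2 (Nat.gcd q o)) = true)
    (h : ns.all (fun n => loopQ o A n fq q₀) = true) (hn : n ∈ ns) : Dead n T := by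
  rw [List.all_eq_true] at h hns
  exact sieve_one q₀ fq ho hA hA0 h2 (Nat.le_of_ble_eq_true (hns n hn)) h1 (h n hn)

/-- `PSp₄(5)`, `n = 12` -/
theorem dead_s25 {T : Type v} [Group T] (h : IsS 2 5 T) : Dead 12 T := by
  intro q hq hc hcand
  rw [card_s25 h, v_s25 h] at hcand
  rw [card_s25 h] at hc
  have h7 : q ≠ 7 := by
    rintro rfl
    obtain ⟨m, h, -, h2, hm, ho, hd, hle⟩ := hcand
    have h3 : m ∣ Nat.gcd ((7 - 1) * 9360000) (7 ^ 12 - 1) := Nat.dvd_gcd ((Dvd.intro _ rfl).trans hd) hm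
    have h4 : Nat.gcd ((7 - 1) * 9360000) (7 ^ 12 - 1) = 93600 := by norm_num
    rw [h4] at h3
    have h5 : m ≤ 93600 := Nat.le_of_dvd (by norm_num) h3
    have hm0 : 0 < m := Nat.pos_of_dvd_of_pos h3 (by norm_num)
    have h6 : 4680000 ≤ m * h := Nat.le_of_dvd (Nat.mul_pos hm0 (by omega)) ho
    have h7 : 50 ≤ h := by
      by_contra hlt
      have : m * h ≤ 93600 * 49 := Nat.mul_le_mul h5 (by omega)
      omega
    have h8 : m ^ 2 ≤ 93600 ^ 2 := Nat.pow_le_pow_left h5 2
    obtain ⟨k, rfl⟩ : ∃ k, h = k + 50 := ⟨h - 50, by omega⟩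
    have h9 : (k + 50) * m ^ 2 ≤ (k + 50) * 93600 ^ 2 := Nat.mul_le_mul_left _ h8
    rw [show k + 50 - 1 = k + 49 by omega] at hle
    have h10 := hle.trans h9
    norm_num at h10
    omega
  have h11 : 11 ≤ q := by
    by_contra hlt
    have h1 : ∀ d, 2 ≤ d → d ∣ q → ¬ d ∣ 4680000 := by
      intro d hd hdq hdc
      have := Nat.dvd_gcd hdq hdc
      rw [hc] at this
      have := Nat.le_of_dvd one_pos this
      omega
    interval_cases q
    · exact h1 2 le_rfl (by norm_num) (by norm_num)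
    · exact h1 3 (by norm_num) (by norm_num) (by norm_num)
    · exact h1 2 le_rfl (by norm_num) (by norm_num)
    · exact h1 5 (by norm_num) (by norm_num) (by norm_num)
    · exact h1 2 le_rfl (by norm_num) (by norm_num)
    · exact h7 rfl
    · exact h1 2 le_rfl (by norm_num) (by norm_num)
    · exact h1 3 (by norm_num) (by norm_num) (by norm_num)
    · exact h1 2 le_rfl (by norm_num) (by norm_num)
  exact loopQ_spec (o := 4680000) (A := 9360000) (n := 12) (by norm_num) (by norm_num) 200 11 (by norm_num)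
    (by decide +kernel) q h11 hc hcand

end cards

variable {F : Type u} [Field F] [Finite F] {n p : ℕ} [hp : Fact p.Prime] [CharP F p]
  {P : Subgroup (Matrix.GeneralLinearGroup (Fin n) F)}

theorem dead_l2 (hC : Core P) (hn : n ≤ 12) (h5 : 5 ≤ n) (h6 : n ≠ 6) {s : ℕ}
    (hs : s ∈ ({7, 8, 11, 13, 17, 19, 23, 25} : Finset ℕ)) (hps : ¬ p ∣ s) (h : IsL 2 s (Soc P)) :
    Dead n (Soc P) ∨ (n = 12 ∧ IsL 2 25 (Soc P)) := by
  have hdeg : (s = 7 → n ∈ [7, 8]) ∧ (s = 8 → n ∈ [7, 8, 9]) ∧ (s = 11 → n ∈ [5, 10, 11, 12]) ∧ (s = 13 → n ∈ [7, 12]) ∧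
      (s = 17 → n ∈ [8, 9]) ∧ (s = 19 → n ∈ [9, 10]) ∧ (s = 23 → n ∈ [11, 12]) ∧ (s = 25 → n = 12) := by
    obtain ⟨K, iF, iT, hK, ⟨e⟩⟩ := h
    simp only [Finset.mem_insert, Finset.mem_singleton] at hs
    have h1 := H464.Sl2.l2_degrees p hC (K := K) (by rw [hK]; omega) (by rw [hK]; omega) (by rw [hK]; exact hps) e
      (by rw [Fintype.card_fin]; exact hn)
    rw [hK, Fintype.card_fin] at h1
    simp only [Finset.mem_insert, Finset.mem_singleton] at h1
    simp only [List.mem_cons, List.not_mem_nil, or_false]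
    omega
  obtain ⟨d7, d8, d11, d13, d17, d19, d23, d25⟩ := hdeg
  simp only [Finset.mem_insert, Finset.mem_singleton] at hs
  rcases hs with rfl | rfl | rfl | rfl | rfl | rfl | rfl | rfl
  · exact Or.inl (dead_mem [7, 8] 5 200 (card_l2 (N := 168) h (by norm_num))
      (aut_l2 (p := 7) (f := 1) (N := 336) h (by norm_num) le_rfl (by norm_num) (by norm_num) (by norm_num))
      (by norm_num) (by norm_num) (by decide) (by decide) (by decide +kernel) (d7 rfl))
  · exact Or.inl (dead_mem [7, 8, 9] 5 200 (card_l2 (N := 504) h (by norm_num))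
      (aut_l2 (p := 2) (f := 3) (N := 1512) h (by norm_num) (by norm_num) (by norm_num) (by norm_num) (by norm_num))
      (by norm_num) (by norm_num) (by decide) (by decide) (by decide +kernel) (d8 rfl))
  · exact Or.inl (dead_mem [5, 10, 11, 12] 7 200 (card_l2 (N := 660) h (by norm_num))
      (aut_l2 (p := 11) (f := 1) (N := 1320) h (by norm_num) le_rfl (by norm_num) (by norm_num) (by norm_num))
      (by norm_num) (by norm_num) (by decide) (by decide) (by decide +kernel) (d11 rfl))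
  · exact Or.inl (dead_mem [7, 12] 5 200 (card_l2 (N := 1092) h (by norm_num))
      (aut_l2 (p := 13) (f := 1) (N := 2184) h (by norm_num) le_rfl (by norm_num) (by norm_num) (by norm_num))
      (by norm_num) (by norm_num) (by decide) (by decide) (by decide +kernel) (d13 rfl))
  · exact Or.inl (dead_mem [8, 9] 5 200 (card_l2 (N := 2448) h (by norm_num))
      (aut_l2 (p := 17) (f := 1) (N := 4896) h (by norm_num) le_rfl (by norm_num) (by norm_num) (by norm_num))
      (by norm_num) (by norm_num) (by decide) (by decide) (by decide +kernel) (d17 rfl))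
  · exact Or.inl (dead_mem [9, 10] 7 200 (card_l2 (N := 3420) h (by norm_num))
      (aut_l2 (p := 19) (f := 1) (N := 6840) h (by norm_num) le_rfl (by norm_num) (by norm_num) (by norm_num))
      (by norm_num) (by norm_num) (by decide) (by decide) (by decide +kernel) (d19 rfl))
  · exact Or.inl (dead_mem [11, 12] 5 200 (card_l2 (N := 6072) h (by norm_num))
      (aut_l2 (p := 23) (f := 1) (N := 12144) h (by norm_num) le_rfl (by norm_num) (by norm_num) (by norm_num))
      (by norm_num) (by norm_num) (by decide) (by decide) (by decide +kernel) (d23 rfl))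
  · exact Or.inr ⟨d25 rfl, h⟩

/-- **S1b.** Everything except `Sz(8)`. -/
theorem small_lie (hC : Core P) (hn : n ≤ 12) (h5 : 5 ≤ n) (h6 : n ≠ 6) (hpT : ¬ p ∣ Nat.card (Soc P))
    (h : H936.List12.LieC p n (Soc P) ∨ H936.List12.MultD p n (Soc P)) :
    Dead n (Soc P) ∨ (n = 12 ∧ (IsL 2 25 (Soc P) ∨ IsU 3 4 (Soc P))) := by
  have hl : ∀ {s : ℕ}, s ∈ ({7, 8, 11, 13, 17, 19, 23, 25} : Finset ℕ) → ¬ p ∣ s → IsL 2 s (Soc P) →
      Dead n (Soc P) ∨ (n = 12 ∧ (IsL 2 25 (Soc P) ∨ IsU 3 4 (Soc P))) := by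
    intro s hs hps h
    rcases dead_l2 hC hn h5 h6 hs hps h with h1 | ⟨h1, h2⟩
    · exact Or.inl h1
    · exact Or.inr ⟨h1, Or.inl h2⟩
  have hu42 : IsU 4 2 (Soc P) → Dead n (Soc P) := fun h =>
    dead_mem [5, 7, 8, 9, 10, 11, 12] 7 1200 (card_u42 h) (v_u42 h) (by norm_num) (by norm_num) (by decide) (by decide)
      (by decide +kernel) (by simp only [List.mem_cons, List.not_mem_nil, or_false]; omega)
  have hs32 : 7 ≤ n → IsS 3 2 (Soc P) → Dead n (Soc P) := fun h7 h =>
    dead_mem [7, 8, 9, 10, 11, 12] 11 400 (card_s32 h) (v_s32 h) (by norm_num) (by norm_num) (by decide) (by decide)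
      (by decide +kernel) (by simp only [List.mem_cons, List.not_mem_nil, or_false]; omega)
  have ho82 : 7 ≤ n → IsOP 4 2 (Soc P) → Dead n (Soc P) := fun h7 h =>
    dead_mem [7, 8, 9, 10, 11, 12] 11 4000 (card_op42 h) (aut_op42 h) (by norm_num) (by norm_num) (by decide) (by decide)
      (by decide +kernel) (by simp only [List.mem_cons, List.not_mem_nil, or_false]; omega)
  rcases h with (⟨s, hs, hps, -, h⟩ | ⟨hp3, h8, h⟩ | ⟨-, h66, h⟩ | ⟨-, h12, h⟩ | ⟨-, -, -, h⟩ | ⟨-, h8, h⟩ | ⟨-, h12, h⟩ |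
    ⟨-, h7, h⟩ | ⟨-, h7, h⟩) | (⟨-, h2, h | h | ⟨-, h⟩ | h | h | h⟩ | ⟨-, h3, h⟩)
  · exact hl hs hps h
  · refine Or.inl ?_
    have hd : n = 11 ∨ n = 12 := by
      obtain ⟨K, iF, iT, hK, ⟨e⟩⟩ := h
      have h1 := (H175.L33.l33 hC p hp3 hK e (by rw [Fintype.card_fin]; exact hn)).2.2.2
      rw [Fintype.card_fin] at h1
      omega
    exact dead_mem [11, 12] 5 200 (card_l3 (N := 5616) h (by norm_num) (by norm_num) (by simp [Fin.prod_univ_succ]))
      (v_l33 h) (by norm_num) (by norm_num) (by decide) (by decide) (by decide +kernel)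
      (by simp only [List.mem_cons, List.not_mem_nil, or_false]; omega)
  · exact Or.inl (dead_mem [7, 8, 9, 10, 11, 12] 5 200 (card_u33 h) (v_u33 h) (by norm_num) (by norm_num) (by decide)
      (by decide) (by decide +kernel) (by simp only [List.mem_cons, List.not_mem_nil, or_false]; omega))
  · exact Or.inr ⟨by omega, Or.inr h⟩
  · exact Or.inl (hu42 h)
  · exact Or.inl (dead_mem [8, 9, 10, 11, 12] 7 400 (card_u52 h) (v_u52 h) (by norm_num) (by norm_num) (by decide)
      (by decide) (by decide +kernel) (by simp only [List.mem_cons, List.not_mem_nil, or_false]; omega))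
  · obtain rfl : n = 12 := by omega
    exact Or.inl (dead_s25 h)
  · exact Or.inl (hs32 h7 h)
  · exact Or.inl (ho82 h7 h)
  · refine hl (s := 7) (by decide) ?_ h
    intro hd
    apply hpT
    rw [card_l2 (N := 168) h (by norm_num)]
    exact hd.trans (by norm_num)
  · exact Or.inl (dead_mem [8, 10, 12] 11 200
      (card_l3 (N := 20160) h (by norm_num) (by norm_num) (by simp [Fin.prod_univ_succ]))
      (v_l34 h) (by norm_num) (by norm_num) (by decide) (by decide) (by decide +kernel)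
      (by simp only [List.mem_cons, List.not_mem_nil, or_false]; omega))
  · exact Or.inl (hu42 h)
  · exact Or.inl (hs32 (by omega) h)
  · exact Or.inl (ho82 (by omega) h)
  · exact Or.inl (dead_mem [8, 10, 12] 11 1000 (card_g24 h) (aut_g24 h) (by norm_num) (by norm_num) (by decide) (by decide)
      (by decide +kernel) (by simp only [List.mem_cons, List.not_mem_nil, or_false]; omega))
  · exact Or.inl (dead_mem [9, 12] 11 200 (card_u43 h) (v_u43 h) (by norm_num) (by norm_num) (by decide) (by decide)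
      (by decide +kernel) (by simp only [List.mem_cons, List.not_mem_nil, or_false]; omega))

end Cfsg.Agent.H530.HT
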