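import Mathlib
import Cfsg.Agent.LieClassical.OrthForms

/-!
# S4933, POmega8+(q), p = 3: an element `t` of order three with `dim (t - 1) V = 2` and a 3-cycle `w` (helper530)

`U` the norm form `x² + x y + y²` (nondegenerate as `3 ≠ 0`), `U ⊥ U ⊥ U ⊥ U` is isometric to `plusForm 4`
(`c = (a, b)` with `a² + a b + b² = -1`), `t` is multiplication by `ω` on the first `U`, `w` permutes the first three.
-/

set_option autoImplicit false

namespace Cfsg.Agent.H530.HT.O8tw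

open Cfsg.Agent.LieClassical.OrthForms Cfsg.Agent.LieClassical.OrthCore

universe u

variable {F : Type u} [Field F]

theorem exists_norm [Finite F] (h3 : (3 : F) ≠ 0) : ∃ a b : F, a ^ 2 + a * b + b ^ 2 = -1 := by
  classical
  have := Fintype.ofFinite F
  by_cases h2 : (2 : F) = 0
  · exact ⟨1, 0, by linear_combination h2⟩
  · have hodd : Fintype.card F % 2 = 1 := by
      have h4 : ringChar F ≠ 2 := by
        intro h
        exact h2 (by exact_mod_cast (ringChar.spec F 2).2 (by rw [h]))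
      exact FiniteField.odd_card_of_char_ne_two h4
    obtain ⟨s, b, h⟩ := FiniteField.exists_root_sum_quadratic
      (f := (Polynomial.X ^ 2 : Polynomial F)) (g := (Polynomial.C 3 * Polynomial.X ^ 2 + Polynomial.C 0 * Polynomial.X + Polynomial.C 4 : Polynomial F))
      (by simp) (Polynomial.degree_quadratic h3) hodd
    simp only [Polynomial.eval_pow, Polynomial.eval_X, Polynomial.eval_add, Polynomial.eval_mul, Polynomial.eval_C] at h
    refine ⟨(s - b) / 2, b, ?_⟩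
    field_simp
    linear_combination h

/-- the norm form -/
def nm (z : F × F) : F := z.1 ^ 2 + z.1 * z.2 + z.2 ^ 2

section phi

variable (a b k : F)

def E1 (z z' : F × F) : F := 2 * z.1 + z.2 + (2 * a + b) * z'.1 + (a + 2 * b) * z'.2
def E2 (z z' : F × F) : F := z.1 + 2 * z.2 + (a - b) * z'.1 + (2 * a + b) * z'.2
def P1 (z z' : F × F) : F := z.1 - k * E1 a b z z'
def P2 (z z' : F × F) : F := z.2 - k * E2 a b z z' + k * E1 a b z z'

theorem form_eq (hk : 3 * k = 1) (hN : a ^ 2 + a * b + b ^ 2 = -1) (z z' : F × F) :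
    P1 a b k z z' * E1 a b z z' + P2 a b k z z' * E2 a b z z' = nm z + nm z' := by
  simp only [P1, P2, E1, E2, nm]
  linear_combination (-(z.1 ^ 2 + z.1 * z.2 + z.2 ^ 2) - (z.1 * ((2 * a + b) * z'.1 + (a + 2 * b) * z'.2) +
    z.2 * ((a - b) * z'.1 + (2 * a + b) * z'.2)) + (z'.1 ^ 2 + z'.1 * z'.2 + z'.2 ^ 2)) * hk -
    3 * k * (z'.1 ^ 2 + z'.1 * z'.2 + z'.2 ^ 2) * hN

def R0 (p1 p2 q1 q2 : F) : F × F := (p1 + k * q1, p2 - k * q1 + k * q2)
def R1 (p1 p2 q1 q2 : F) : F × F :=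
  (a * p1 - b * p2 - k * a * q1 + k * (a + b) * q2, b * p1 + (a + b) * p2 - k * b * q1 - k * a * q2)

theorem r0_eq (z z' : F × F) : R0 k (P1 a b k z z') (P2 a b k z z') (E1 a b z z') (E2 a b z z') = z := by
  ext
  · simp only [R0, P1, P2]; ring
  · simp only [R0, P1, P2]; ring

theorem r1_eq (hk : 3 * k = 1) (hN : a ^ 2 + a * b + b ^ 2 = -1) (z z' : F × F) :
    R1 a b k (P1 a b k z z') (P2 a b k z z') (E1 a b z z') (E2 a b z z') = z' := by
  ext
  · simp only [R1, P1, P2, E1, E2]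
    linear_combination (-a * z.1 + b * z.2 + z'.1) * hk - 3 * k * z'.1 * hN
  · simp only [R1, P1, P2, E1, E2]
    linear_combination (-b * z.1 - (a + b) * z.2 + z'.2) * hk - 3 * k * z'.2 * hN

theorem e1_eq (hk : 3 * k = 1) (hN : a ^ 2 + a * b + b ^ 2 = -1) (p1 p2 q1 q2 : F) :
    E1 a b (R0 k p1 p2 q1 q2) (R1 a b k p1 p2 q1 q2) = q1 := by
  simp only [R1, R0, E1]
  linear_combination (2 * p1 + p2 + k * q2 - 2 * k * q1) * hN + q1 * hk

theorem e2_eq (hk : 3 * k = 1) (hN : a ^ 2 + a * b + b ^ 2 = -1) (p1 p2 q1 q2 : F) :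
    E2 a b (R0 k p1 p2 q1 q2) (R1 a b k p1 p2 q1 q2) = q2 := by
  simp only [R1, R0, E2]
  linear_combination (p1 + 2 * p2 - k * q1 - k * q2) * hN + q2 * hk

theorem p1_eq (hk : 3 * k = 1) (hN : a ^ 2 + a * b + b ^ 2 = -1) (p1 p2 q1 q2 : F) :
    P1 a b k (R0 k p1 p2 q1 q2) (R1 a b k p1 p2 q1 q2) = p1 := by
  rw [P1, e1_eq a b k hk hN]
  simp only [R0]; ring

theorem p2_eq (hk : 3 * k = 1) (hN : a ^ 2 + a * b + b ^ 2 = -1) (p1 p2 q1 q2 : F) :
    P2 a b k (R0 k p1 p2 q1 q2) (R1 a b k p1 p2 q1 q2) = p2 := by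
  rw [P2, e1_eq a b k hk hN, e2_eq a b k hk hN]
  simp only [R0]; ring

/-- the isometry -/
def phi (hk : 3 * k = 1) (hN : a ^ 2 + a * b + b ^ 2 = -1) : (Fin 4 → F × F) ≃ₗ[F] (Fin 4 ⊕ Fin 4 → F) where
  toFun v := Sum.elim ![P1 a b k (v 0) (v 1), P2 a b k (v 0) (v 1), P1 a b k (v 2) (v 3), P2 a b k (v 2) (v 3)]
    ![E1 a b (v 0) (v 1), E2 a b (v 0) (v 1), E1 a b (v 2) (v 3), E2 a b (v 2) (v 3)]
  invFun x := ![R0 k (x (.inl 0)) (x (.inl 1)) (x (.inr 0)) (x (.inr 1)),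
    R1 a b k (x (.inl 0)) (x (.inl 1)) (x (.inr 0)) (x (.inr 1)),
    R0 k (x (.inl 2)) (x (.inl 3)) (x (.inr 2)) (x (.inr 3)),
    R1 a b k (x (.inl 2)) (x (.inl 3)) (x (.inr 2)) (x (.inr 3))]
  map_add' u v := by
    funext i
    rcases i with i | i <;> fin_cases i <;> simp [P1, P2, E1, E2] <;> ring
  map_smul' c v := by
    funext i
    rcases i with i | i <;> fin_cases i <;> simp [P1, P2, E1, E2] <;> ring
  left_inv v := by
    funext i
    fin_cases i
    · exact r0_eq a b k (v 0) (v 1)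
    · exact r1_eq a b k hk hN (v 0) (v 1)
    · exact r0_eq a b k (v 2) (v 3)
    · exact r1_eq a b k hk hN (v 2) (v 3)
  right_inv x := by
    funext i
    rcases i with i | i <;> fin_cases i
    · exact p1_eq a b k hk hN _ _ _ _
    · exact p2_eq a b k hk hN _ _ _ _
    · exact p1_eq a b k hk hN _ _ _ _
    · exact p2_eq a b k hk hN _ _ _ _
    · exact e1_eq a b k hk hN _ _ _ _
    · exact e2_eq a b k hk hN _ _ _ _
    · exact e1_eq a b k hk hN _ _ _ _
    · exact e2_eq a b k hk hN _ _ _ _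

theorem phi_form (hk : 3 * k = 1) (hN : a ^ 2 + a * b + b ^ 2 = -1) (v : Fin 4 → F × F) :
    plusForm 4 F (phi a b k hk hN v) = ∑ i, nm (v i) := by
  have h1 := form_eq a b k hk hN (v 0) (v 1)
  have h2 := form_eq a b k hk hN (v 2) (v 3)
  rw [coe_plusForm, quadFormPlus_apply, Fin.sum_univ_four, Fin.sum_univ_four]
  show P1 a b k (v 0) (v 1) * E1 a b (v 0) (v 1) + P2 a b k (v 0) (v 1) * E2 a b (v 0) (v 1) +
    P1 a b k (v 2) (v 3) * E1 a b (v 2) (v 3) + P2 a b k (v 2) (v 3) * E2 a b (v 2) (v 3) = _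
  linear_combination h1 + h2

end phi

/-- multiplication by `ω` -/
def tau : (F × F) ≃ₗ[F] (F × F) where
  toFun z := (-z.1 - z.2, z.1)
  invFun z := (z.2, -z.1 - z.2)
  map_add' u v := by ext <;> simp <;> ring
  map_smul' c v := by ext <;> simp <;> ring
  left_inv z := by
    ext
    · rfl
    · show -(-z.1 - z.2) - z.1 = z.2
      ring
  right_inv z := by
    ext
    · show -z.2 - (-z.1 - z.2) = z.1
      ring
    · rfl

theorem nm_tau (z : F × F) : nm (tau z) = nm z := by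
  show (-z.1 - z.2) ^ 2 + (-z.1 - z.2) * z.1 + z.1 ^ 2 = z.1 ^ 2 + z.1 * z.2 + z.2 ^ 2
  ring

theorem tau_three (z : F × F) : tau (tau (tau z)) = z := by
  ext
  · show -(-(-z.1 - z.2) - z.1) - (-z.1 - z.2) = z.1
    ring
  · show -(-z.1 - z.2) - z.1 = z.2
    ring

/-- `τ` on the component `i` -/
def T (i : Fin 4) : (Fin 4 → F × F) ≃ₗ[F] (Fin 4 → F × F) :=
  LinearEquiv.piCongrRight fun j => if j = i then tau else LinearEquiv.refl F (F × F)

theorem T_apply (i : Fin 4) (v : Fin 4 → F × F) (j : Fin 4) : T i v j = if j = i then tau (v j) else v j := by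
  simp only [T, LinearEquiv.piCongrRight_apply]
  split_ifs <;> rfl

/-- the 3-cycle -/
def W (s : Equiv.Perm (Fin 4)) : (Fin 4 → F × F) ≃ₗ[F] (Fin 4 → F × F) :=
  LinearEquiv.funCongrLeft F (F × F) s

theorem W_apply (s : Equiv.Perm (Fin 4)) (v : Fin 4 → F × F) (j : Fin 4) : W s v j = v (s j) := rfl

theorem W_T (s : Equiv.Perm (Fin 4)) (i : Fin 4) : (W s : (Fin 4 → F × F) ≃ₗ[F] _) * T i * (W s)⁻¹ = T (s.symm i) := by
  rw [mul_inv_eq_iff_eq_mul]
  ext1 v
  funext j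
  rw [LinearEquiv.mul_apply, LinearEquiv.mul_apply, W_apply, T_apply, T_apply, W_apply]
  have : (s j = i) ↔ j = s.symm i := by rw [Equiv.eq_symm_apply]
  simp only [this]

theorem T_comm (i j : Fin 4) : Commute (T i : (Fin 4 → F × F) ≃ₗ[F] _) (T j) := by
  ext1 v
  funext l
  rw [LinearEquiv.mul_apply, LinearEquiv.mul_apply, T_apply, T_apply, T_apply, T_apply]
  split_ifs <;> rfl

theorem T_three (i : Fin 4) : (T i : (Fin 4 → F × F) ≃ₗ[F] _) ^ 3 = 1 := by
  ext1 v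
  funext l
  rw [pow_succ, pow_two, LinearEquiv.mul_apply, LinearEquiv.mul_apply, T_apply, T_apply, T_apply]
  split_ifs
  · exact tau_three _
  · rfl

/-- transport to the space of `plusForm 4` -/
def tr {V V' : Type*} [AddCommGroup V] [Module F V] [AddCommGroup V'] [Module F V'] (e : V ≃ₗ[F] V') :
    (V ≃ₗ[F] V) →* (V' ≃ₗ[F] V') where
  toFun g := (e.symm.trans g).trans e
  map_one' := by
    ext1 x
    exact e.apply_symm_apply x
  map_mul' g h := by
    ext1 x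
    show e (g (h (e.symm x))) = e (g (e.symm (e (h (e.symm x)))))
    rw [e.symm_apply_apply]

theorem tr_apply {V V' : Type*} [AddCommGroup V] [Module F V] [AddCommGroup V'] [Module F V'] (e : V ≃ₗ[F] V')
    (g : V ≃ₗ[F] V) (x : V') : tr e g x = e (g (e.symm x)) := rfl

theorem tr_injective {V V' : Type*} [AddCommGroup V] [Module F V] [AddCommGroup V'] [Module F V'] (e : V ≃ₗ[F] V') :
    Function.Injective (tr e : (V ≃ₗ[F] V) →* (V' ≃ₗ[F] V')) := by
  intro g h hgh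
  ext1 x
  have h1 : tr e g (e x) = tr e h (e x) := by rw [hgh]
  rw [tr_apply, tr_apply, e.symm_apply_apply] at h1
  exact e.injective h1

/-- the 3-cycle (0 1 2) -/
def sg : Equiv.Perm (Fin 4) := Equiv.swap 0 1 * Equiv.swap 1 2

theorem sg_three : sg ^ 3 = 1 := by decide

theorem W_three : (W sg : (Fin 4 → F × F) ≃ₗ[F] _) ^ 3 = 1 := by
  ext1 v
  funext l
  rw [pow_succ, pow_two, LinearEquiv.mul_apply, LinearEquiv.mul_apply, W_apply, W_apply, W_apply]
  show v (sg (sg (sg l))) = v l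
  have h : (sg ^ 3) l = l := by rw [sg_three]; rfl
  exact congrArg v h

end Cfsg.Agent.H530.HT.O8tw

namespace Cfsg.Agent.H530.HT

open Cfsg.Agent.LieClassical.OrthForms Cfsg.Agent.LieClassical.OrthCore O8tw

universe u

/-- **The elements `t`, `w` of the orthogonal group of plus type in dimension eight.** -/
theorem exists_tw {F : Type u} [Field F] [Finite F] (h3 : (3 : F) ≠ 0) :
    ∃ t w : (Fin 4 ⊕ Fin 4 → F) ≃ₗ[F] (Fin 4 ⊕ Fin 4 → F), t ∈ O (plusForm 4 F) ∧ w ∈ O (plusForm 4 F) ∧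
      t ^ 3 = 1 ∧ t ≠ 1 ∧ w ^ 3 = 1 ∧ Commute t (w * t * w⁻¹) ∧ Commute t (w * (w * t * w⁻¹) * w⁻¹) ∧
      w * (t⁻¹ * (w * t * w⁻¹)) * w⁻¹ ≠ t⁻¹ * (w * t * w⁻¹) ∧
      ∃ d₁ d₂ : Fin 4 ⊕ Fin 4 → F, ∀ v, t v - v ∈ Submodule.span F {d₁, d₂} := by
  obtain ⟨a, b, hN⟩ := exists_norm h3
  obtain ⟨k, hk⟩ : ∃ k : F, 3 * k = 1 := ⟨3⁻¹, mul_inv_cancel₀ h3⟩
  let e := phi a b k hk hN
  have hf : ∀ v, plusForm 4 F (e v) = ∑ i, nm (v i) := phi_form a b k hk hN
  have hO : ∀ g : (Fin 4 → F × F) ≃ₗ[F] (Fin 4 → F × F), (∀ v, ∑ i, nm (g v i) = ∑ i, nm (v i)) →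
      tr e g ∈ O (plusForm 4 F) := by
    intro g hg x
    rw [tr_apply, hf, hg, ← hf, e.apply_symm_apply]
  have hT : ∀ i, tr e (T i) ∈ O (plusForm 4 F) := fun i => hO _ fun v => by
    refine Finset.sum_congr rfl fun j _ => ?_
    rw [T_apply]
    split_ifs
    · exact nm_tau _
    · rfl
  have hW : tr e (W sg) ∈ O (plusForm 4 F) := hO _ fun v => by
    simp only [W_apply]
    exact Equiv.sum_comp sg fun j => nm (v j)
  have hw1 : tr e (W sg) * tr e (T 0) * (tr e (W sg))⁻¹ = tr e (T (sg.symm 0)) := by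
    rw [← map_inv, ← map_mul, ← map_mul, W_T]
  have hw2 : tr e (W sg) * tr e (T (sg.symm 0)) * (tr e (W sg))⁻¹ = tr e (T (sg.symm (sg.symm 0))) := by
    rw [← map_inv, ← map_mul, ← map_mul, W_T]
  refine ⟨tr e (T 0), tr e (W sg), hT 0, hW, ?_, ?_, ?_, ?_, ?_, ?_, e (Pi.single 0 (1, 0)), e (Pi.single 0 (0, 1)), ?_⟩
  · rw [← map_pow, T_three, map_one]
  · intro h
    have h1 : (T 0 : (Fin 4 → F × F) ≃ₗ[F] _) = 1 := tr_injective e (by rw [h, map_one])
    have h2 := congrArg (fun g : (Fin 4 → F × F) ≃ₗ[F] _ => (g (fun _ => (0, 1)) 0).1) h1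
    simp [T_apply, tau] at h2
  · rw [← map_pow, W_three, map_one]
  · rw [hw1]
    exact (T_comm _ _).map (tr e)
  · rw [hw1, hw2]
    exact (T_comm _ _).map (tr e)
  · have h4 : tr e (W sg) * ((tr e (T 0))⁻¹ * (tr e (W sg) * tr e (T 0) * (tr e (W sg))⁻¹)) * (tr e (W sg))⁻¹ =
        (tr e (T (sg.symm 0)))⁻¹ * tr e (T (sg.symm (sg.symm 0))) := by
      rw [← hw2, ← hw1]; group
    rw [h4, hw1]
    intro h
    have h5 : ((T (sg.symm 0) : (Fin 4 → F × F) ≃ₗ[F] _))⁻¹ * T (sg.symm (sg.symm 0)) = (T 0)⁻¹ * T (sg.symm 0) := by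
      apply tr_injective e
      rw [map_mul, map_mul, map_inv, map_inv, h]
    have h6 : (T 0 : (Fin 4 → F × F) ≃ₗ[F] _) * T (sg.symm (sg.symm 0)) = T (sg.symm 0) * T (sg.symm 0) := by
      have h7 := (T_comm (F := F) 0 (sg.symm 0)).eq
      calc (T 0 : (Fin 4 → F × F) ≃ₗ[F] _) * T (sg.symm (sg.symm 0))
          = T 0 * T (sg.symm 0) * ((T (sg.symm 0))⁻¹ * T (sg.symm (sg.symm 0))) := by group
        _ = T (sg.symm 0) * T 0 * ((T 0)⁻¹ * T (sg.symm 0)) := by rw [h5, h7]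
        _ = T (sg.symm 0) * T (sg.symm 0) := by group
    have h8 := congrArg (fun g : (Fin 4 → F × F) ≃ₗ[F] _ => (g (fun _ => (0, 1)) 0).1) h6
    have e1 : sg.symm 0 = 2 := by decide
    have e2 : sg.symm 2 = 1 := by decide
    rw [e1, e2] at h8
    simp [T_apply, LinearEquiv.mul_apply, tau] at h8
  · intro v
    have h1 : tr e (T 0) v - v = e (T 0 (e.symm v) - e.symm v) := by
      rw [tr_apply, map_sub, e.apply_symm_apply]
    set u := e.symm v with hu
    have h2 : T 0 u - u = (tau (u 0) - u 0).1 • (Pi.single 0 ((1 : F), (0 : F)) : Fin 4 → F × F) +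
        (tau (u 0) - u 0).2 • (Pi.single 0 ((0 : F), (1 : F)) : Fin 4 → F × F) := by
      funext j
      by_cases hj : j = 0
      · subst hj
        rw [Pi.sub_apply, T_apply, if_pos rfl]
        ext <;> simp
      · rw [Pi.sub_apply, T_apply, if_neg hj]
        simp [Pi.single_eq_of_ne hj]
    rw [h1, h2, map_add, map_smul, map_smul]
    exact Submodule.add_mem _ (Submodule.smul_mem _ _ (Submodule.subset_span (by simp)))
      (Submodule.smul_mem _ _ (Submodule.subset_span (by simp)))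

end Cfsg.Agent.H530.HT

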