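import Mathlib

/-!
# S3540, B3: the numerical inequalities for `PSp_2m(s)` (helper530)
-/

set_option autoImplicit false

namespace Cfsg.Agent.H530.HT

/-- the exponent -/
def EE (m : ℕ) : ℕ := 4 * m ^ 2 + 2 * m + 2

theorem EE_succ {m : ℕ} (hm : 2 ≤ m) : EE (m + 1) ≤ 2 * EE m := by
  unfold EE
  nlinarith

/-- `2 ^ (14 x) ≤ 7 ^ (5 x)` -/
theorem two_pow_le (x : ℕ) : 2 ^ (14 * x) ≤ 7 ^ (5 * x) := by
  rw [pow_mul, pow_mul]
  exact Nat.pow_le_pow_left (by norm_num) x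

/-- the basic inequality -/
theorem pow_le_of {s a E x : ℕ} (hs : s ≤ 2 ^ a) (h : 5 * a * E ≤ 14 * x) : s ^ E ≤ 7 ^ x := by
  have h1 : (s ^ E) ^ 5 ≤ (7 ^ x) ^ 5 := by
    calc (s ^ E) ^ 5 ≤ ((2 ^ a) ^ E) ^ 5 := Nat.pow_le_pow_left (Nat.pow_le_pow_left hs E) 5
      _ = 2 ^ (5 * a * E) := by rw [← pow_mul, ← pow_mul]; congr 1; ring
      _ ≤ 2 ^ (14 * x) := Nat.pow_le_pow_right (by norm_num) h
      _ ≤ 7 ^ (5 * x) := two_pow_le x
      _ = (7 ^ x) ^ 5 := by rw [← pow_mul]; congr 1; ring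
  exact (Nat.pow_le_pow_iff_left (by norm_num)).1 h1

/-- growth in `m` : `5 a E(m) ≤ 7 (s ^ m - c)` -/
theorem grow {s a c m₀ : ℕ} (hs : 2 ≤ s) (hm₀ : 2 ≤ m₀) (h0 : 5 * a * EE m₀ + 7 * c ≤ 7 * s ^ m₀) :
    ∀ m, m₀ ≤ m → 5 * a * EE m + 7 * c ≤ 7 * s ^ m := by
  intro m hm
  induction m, hm using Nat.le_induction with
  | base => exact h0
  | succ m hm ih =>
    have h1 := EE_succ (hm₀.trans hm)
    have h2 : 5 * a * EE (m + 1) ≤ 5 * a * (2 * EE m) := Nat.mul_le_mul_left _ h1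
    have h3 : 2 * s ^ m ≤ s ^ (m + 1) := by
      rw [pow_succ, mul_comm]
      exact Nat.mul_le_mul_left _ hs
    nlinarith

/-- odd `s` -/
theorem odd_ineq {s m n : ℕ} (hs : 3 ≤ s) (hm : 2 ≤ m) (h3 : s = 3 → 5 ≤ m) (h5 : s = 5 → 3 ≤ m)
    (h9 : s ≠ 4) (h6 : s ≠ 6) (h7 : s ≠ 8) (hn : s ^ m ≤ 2 * n + 1) : s ^ EE m ≤ 2 * 7 ^ (n - 2) := by
  -- `7 (s ^ m - 5) ≥ 5 a E(m)`
  by_cases h72 : s = 7 ∧ m = 2
  · obtain ⟨rfl, rfl⟩ := h72
    have h1 : 22 ≤ n - 2 := by omega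
    have h2 : EE 2 = 22 := rfl
    rw [h2]
    exact (Nat.pow_le_pow_right (by norm_num) h1).trans (Nat.le_mul_of_pos_left _ (by norm_num))
  obtain ⟨a, ha1, ha2⟩ : ∃ a, s ≤ 2 ^ a ∧ 5 * a * EE m + 7 * 5 ≤ 7 * s ^ m := by
    rcases Nat.lt_or_ge s 9 with h | h
    · interval_cases s
      · exact ⟨2, by norm_num, grow (m₀ := 5) (by norm_num) (by norm_num) (by norm_num [EE]) m (h3 rfl)⟩
      · omega
      · exact ⟨3, by norm_num, grow (m₀ := 3) (by norm_num) (by norm_num) (by norm_num [EE]) m (h5 rfl)⟩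
      · omega
      · have hm3 : 3 ≤ m := by
          by_contra hcon
          exact h72 ⟨rfl, by omega⟩
        exact ⟨3, by norm_num, grow (m₀ := 3) (by norm_num) (by norm_num) (by norm_num [EE]) m hm3⟩
      · omega
    · -- `s ≤ 2 ^ (s / 2)`
      refine ⟨s / 2, ?_, ?_⟩
      · have key : ∀ k, 4 ≤ k → 2 * k + 2 ≤ 2 ^ k := by
          intro k hk
          induction k, hk using Nat.le_induction with
          | base => norm_num
          | succ k hk ih =>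
            rw [pow_succ]
            omega
        have h1 := key (s / 2) (by omega)
        omega
      · refine grow (m₀ := 2) (by omega) le_rfl ?_ m hm
        have h2 : EE 2 = 22 := rfl
        rw [h2]
        have h3 : 2 * (s / 2) ≤ s := Nat.mul_div_le s 2
        nlinarith
  have h1 : 5 * a * EE m ≤ 14 * (n - 2) := by omega
  exact (pow_le_of ha1 h1).trans (Nat.le_mul_of_pos_left _ (by norm_num))

/-- even `s` -/
theorem even_ineq {s m n : ℕ} (hs : 2 ≤ s) (hm : 2 ≤ m) (h2 : s = 2 → 6 ≤ m) (h4 : s = 4 → 3 ≤ m)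
    (h3 : s ≠ 3) (h5 : s ≠ 5) (h6 : s ≠ 6) (h7 : s ≠ 7) (hn : s ^ m ≤ n + 1) : s ^ EE m ≤ 2 * 7 ^ (n - 2) := by
  -- `14 (s ^ m - 3) ≥ 5 a E(m)`
  have hgrow : ∀ {a m₀ : ℕ}, 2 ≤ m₀ → 5 * a * EE m₀ + 42 ≤ 14 * s ^ m₀ → ∀ m, m₀ ≤ m →
      5 * a * EE m + 42 ≤ 14 * s ^ m := by
    intro a m₀ hm₀ h0 m hm
    induction m, hm using Nat.le_induction with
    | base => exact h0
    | succ m hm ih =>
      have h1 := EE_succ (hm₀.trans hm)
      have h2 : 5 * a * EE (m + 1) ≤ 5 * a * (2 * EE m) := Nat.mul_le_mul_left _ h1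
      have h3 : 2 * s ^ m ≤ s ^ (m + 1) := by
        rw [pow_succ, mul_comm]
        exact Nat.mul_le_mul_left _ hs
      nlinarith
  obtain ⟨a, ha1, ha2⟩ : ∃ a, s ≤ 2 ^ a ∧ 5 * a * EE m + 42 ≤ 14 * s ^ m := by
    rcases Nat.lt_or_ge s 8 with h | h
    · interval_cases s
      · exact ⟨1, by norm_num, hgrow (m₀ := 6) (by norm_num) (by norm_num [EE]) m (h2 rfl)⟩
      · omega
      · exact ⟨2, by norm_num, hgrow (m₀ := 3) (by norm_num) (by norm_num [EE]) m (h4 rfl)⟩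
      · omega
      · omega
      · omega
    · refine ⟨(s + 1) / 2, ?_, ?_⟩
      · have key : ∀ k, 4 ≤ k → 2 * k ≤ 2 ^ k := by
          intro k hk
          induction k, hk using Nat.le_induction with
          | base => norm_num
          | succ k hk ih =>
            rw [pow_succ]
            omega
        have h1 := key ((s + 1) / 2) (by omega)
        omega
      · refine hgrow (m₀ := 2) le_rfl ?_ m hm
        have h2 : EE 2 = 22 := rfl
        rw [h2]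
        have h3 : 2 * ((s + 1) / 2) ≤ s + 1 := Nat.mul_div_le _ 2
        nlinarith
  have h1 : 5 * a * EE m ≤ 14 * (n - 2) := by omega
  exact (pow_le_of ha1 h1).trans (Nat.le_mul_of_pos_left _ (by norm_num))

end Cfsg.Agent.H530.HT
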