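import Cfsg.Agent.H337.HT.Num

/-!
# S3540, S1b: the sieve for a single degree (helper530)
-/

set_option autoImplicit false

universe u v

namespace Cfsg.Agent.H530.HT

open Cfsg.Agent.H337.HT

/-- **The search for one degree** -/
theorem sieve_one {T : Type u} [Group T] {o A n : ℕ} (q₀ fq : ℕ) (ho : Nat.card T = o)
    (hA : Nat.card (MulAut T) = A) (hA0 : 0 < A) (h2 : 2 ≤ q₀) (hn : 2 ≤ n)
    (h1 : (List.range q₀).all (fun q => Nat.ble q 1 || Nat.ble 2 (Nat.gcd q o)) = true)
    (h : loopQ o A n fq q₀ = true) : Dead n T := by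
  intro q hq hc
  rw [ho] at hc ⊢
  rw [hA]
  exact loopQ_spec hn hA0 fq q₀ h2 h q (le_of_coprime h1 hq hc) hc

/-- all degrees from `7` (or `n₀`) to `12` -/
def loopR (o A q₀ fq n₀ k : ℕ) : Bool := (List.range k).all fun i => loopQ o A (n₀ + i) fq q₀

theorem sieve_range {T : Type u} [Group T] {o A n : ℕ} (n₀ k q₀ fq : ℕ) (ho : Nat.card T = o)
    (hA : Nat.card (MulAut T) = A) (hA0 : 0 < A) (h2 : 2 ≤ q₀) (hn₀ : 2 ≤ n₀)
    (h1 : (List.range q₀).all (fun q => Nat.ble q 1 || Nat.ble 2 (Nat.gcd q o)) = true)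
    (h : loopR o A q₀ fq n₀ k = true) (hn : n₀ ≤ n) (hn' : n < n₀ + k) : Dead n T := by
  rw [loopR, List.all_eq_true] at h
  have h3 := h (n - n₀) (List.mem_range.2 (by omega))
  rw [Nat.add_sub_cancel' hn] at h3
  exact sieve_one q₀ fq ho hA hA0 h2 (hn₀.trans hn) h1 h3

-- `L₂(7)`, `L₂(8)`, `L₂(11)`, `L₂(13)`, `L₂(17)`, `L₂(19)`, `L₂(23)`
theorem c7a : loopQ 168 336 5 200 5 = true := by decide +kernel
theorem c7b : loopR 168 336 5 200 7 6 = true := by decide +kernel
theorem c8 : loopR 504 1512 5 200 7 6 = true := by decide +kernel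
theorem c11a : loopQ 660 1320 5 200 5 = true := by decide +kernel
theorem c11b : loopR 660 1320 7 200 7 6 = true := by decide +kernel
theorem c13a : loopQ 1092 2184 7 200 5 = true := by decide +kernel
theorem c13b : loopR 1092 2184 5 200 9 4 = true := by decide +kernel
theorem c17 : loopR 2448 4896 5 200 8 5 = true := by decide +kernel
theorem c19 : loopR 3420 6840 7 200 9 4 = true := by decide +kernel
theorem c23 : loopR 6072 12144 5 200 11 2 = true := by decide +kernel
-- `L₃(3)` (`n = 11, 12`), `L₃(4)` (`n = 8, 10, 12`)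
theorem c33 : loopR 5616 11232 5 200 11 2 = true := by decide +kernel
theorem c34 : loopR 20160 241920 11 200 8 5 = true := by decide +kernel
-- unitary
theorem u33 : loopR 6048 12096 5 200 7 6 = true := by decide +kernel
theorem u42a : loopQ 25920 51840 5 1200 7 = true := by decide +kernel
theorem u42b : loopR 25920 51840 7 200 7 6 = true := by decide +kernel
theorem u52 : loopR 13685760 27371520 7 400 8 5 = true := by decide +kernel
theorem u43 : loopR 3265920 26127360 11 200 9 4 = true := by decide +kernel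
-- `Sp₆(2)`, `Ω₈⁺(2)`, `G₂(4)`
theorem s32 : loopR 1451520 1451520 11 400 7 6 = true := by decide +kernel
theorem o82a : loopQ 174182400 1045094400 7 4000 11 = true := by decide +kernel
theorem o82b : loopR 174182400 1045094400 11 1000 8 5 = true := by decide +kernel
theorem g24 : loopR 251596800 503193600 11 1000 8 5 = true := by decide +kernel

end Cfsg.Agent.H530.HT
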