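import Cfsg.Agent.H730.Hit.Count
import Cfsg.Agent.H388.R27.Y19
import Cfsg.Agent.H418.CC.Heis

/-!
# Counting with the elements of two prime orders (helper530)

`orbit_sum` : for a non-negative class function `F` and `u` of prime order `r`,
`|T| * ∑_{k ≠ 0} F (u ^ k) ≤ |N(⟨u⟩)| * ∑_{o(t) = r} F t`;
`mult_sum` : `∑_{k ≠ 0} |χ (z ^ k)| ^ 2 ≥ s (r - s)`, `s` the residue of `χ 1` modulo `r`.
-/

set_option autoImplicit false

namespace Cfsg.Agent.H530.HT

open Cfsg
open scoped ComplexConjugate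

/-- sum over the elements of prime order -/
theorem orbit_sum {T : Type*} [Group T] [Fintype T] (F : T → ℝ) (h0 : ∀ t, 0 ≤ F t)
    (hc : ∀ s t, F (s * t * s⁻¹) = F t) {r : ℕ} [hr : Fact r.Prime] {u : T} (hu : orderOf u = r) {c : ℝ}
    (hcu : c ≤ ∑ k ∈ (Finset.univ : Finset (ZMod r)).erase 0, F (u ^ k.val)) {N : ℕ}
    (hN : Nat.card (Subgroup.normalizer (Subgroup.zpowers u : Set T)) ≤ N) [DecidablePred fun t : T => orderOf t = r] :
    (Nat.card T : ℝ) * c ≤ N * ∑ t ∈ (Finset.univ : Finset T).filter (fun t => orderOf t = r), F t := by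
  classical
  let I : Finset (T × ZMod r) := Finset.univ ×ˢ (Finset.univ : Finset (ZMod r)).erase 0
  let f : T × ZMod r → T := fun x => x.1 * u ^ x.2.val * x.1⁻¹
  have hord : ∀ k : ZMod r, k ≠ 0 → orderOf (u ^ k.val) = r := by
    intro k hk
    rw [orderOf_pow, hu]
    have h1 : Nat.gcd r k.val = 1 := by
      rw [← Nat.coprime_iff_gcd_eq_one, Nat.Prime.coprime_iff_not_dvd hr.out]
      intro hd
      have := Nat.eq_zero_of_dvd_of_lt hd (ZMod.val_lt k)
      exact hk ((ZMod.val_eq_zero k).1 this)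
    rw [h1, Nat.div_one]
  have hI : ∀ x ∈ I, x.2 ≠ 0 := by
    intro x hx
    exact (Finset.mem_erase.1 (Finset.mem_product.1 hx).2).1
  have hf : ∀ x ∈ I, f x ∈ (Finset.univ : Finset T).filter (fun t => orderOf t = r) := by
    intro x hx
    refine Finset.mem_filter.2 ⟨Finset.mem_univ _, ?_⟩
    have h1 : orderOf (x.1 * u ^ x.2.val * x.1⁻¹) = orderOf (u ^ x.2.val) := by
      have := orderOf_injective (MulAut.conj x.1).toMonoidHom (MulAut.conj x.1).injective (u ^ x.2.val)
      exact this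
    exact h1.trans (hord _ (hI x hx))
  have h1 : ∑ x ∈ I, F (f x) = Nat.card T * ∑ k ∈ (Finset.univ : Finset (ZMod r)).erase 0, F (u ^ k.val) := by
    rw [Finset.sum_product]
    have : ∀ s ∈ (Finset.univ : Finset T), ∑ k ∈ (Finset.univ : Finset (ZMod r)).erase 0, F (f (s, k)) =
        ∑ k ∈ (Finset.univ : Finset (ZMod r)).erase 0, F (u ^ k.val) :=
      fun s _ => Finset.sum_congr rfl fun k _ => hc s _
    rw [Finset.sum_congr rfl this, Finset.sum_const, nsmul_eq_mul, Finset.card_univ, Nat.card_eq_fintype_card]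
  have h2 : ∑ x ∈ I, F (f x) ≤ N * ∑ t ∈ (Finset.univ : Finset T).filter (fun t => orderOf t = r), F t := by
    rw [← Finset.sum_fiberwise_of_maps_to hf, Finset.mul_sum]
    refine Finset.sum_le_sum fun t ht => ?_
    have h3 : ∀ x ∈ I.filter (fun x => f x = t), F (f x) = F t := fun x hx => by rw [(Finset.mem_filter.1 hx).2]
    rw [Finset.sum_congr rfl h3, Finset.sum_const, nsmul_eq_mul]
    refine mul_le_mul_of_nonneg_right ?_ (h0 t)
    norm_cast
    refine le_trans ?_ hN
    rcases (I.filter (fun x => f x = t)).eq_empty_or_nonempty with he | ⟨x0, hx0⟩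
    · rw [he, Finset.card_empty]
      exact Nat.zero_le _
    · have hx0I := (Finset.mem_filter.1 hx0).1
      have hx0t : x0.1 * u ^ x0.2.val * x0.1⁻¹ = t := (Finset.mem_filter.1 hx0).2
      have key : ∀ x ∈ I.filter (fun x => f x = t), x0.1⁻¹ * x.1 ∈ Subgroup.normalizer (Subgroup.zpowers u : Set T) := by
        intro x hx
        have hxI := (Finset.mem_filter.1 hx).1
        have hxt : x.1 * u ^ x.2.val * x.1⁻¹ = t := (Finset.mem_filter.1 hx).2
        have h4 : x0.1⁻¹ * x.1 * u ^ x.2.val * (x0.1⁻¹ * x.1)⁻¹ = u ^ x0.2.val := by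
          calc x0.1⁻¹ * x.1 * u ^ x.2.val * (x0.1⁻¹ * x.1)⁻¹ = x0.1⁻¹ * (x.1 * u ^ x.2.val * x.1⁻¹) * x0.1 := by group
            _ = x0.1⁻¹ * (x0.1 * u ^ x0.2.val * x0.1⁻¹) * x0.1 := by rw [hxt, hx0t]
            _ = u ^ x0.2.val := by group
        have h5 : ∀ k : ZMod r, k ≠ 0 → Subgroup.zpowers (u ^ k.val) = Subgroup.zpowers u := by
          intro k hk
          refine Subgroup.eq_of_le_of_card_ge (Subgroup.zpowers_le.2 (Subgroup.pow_mem _ (Subgroup.mem_zpowers u) _)) ?_
          rw [Nat.card_zpowers, Nat.card_zpowers, hord k hk, hu]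
        have h6 : (Subgroup.zpowers u).map (MulAut.conj (x0.1⁻¹ * x.1)).toMonoidHom = Subgroup.zpowers u := by
          rw [← h5 x.2 (hI x hxI), MonoidHom.map_zpowers]
          have h7 : (MulAut.conj (x0.1⁻¹ * x.1)).toMonoidHom (u ^ x.2.val) = u ^ x0.2.val := h4
          rw [h7, h5 x0.2 (hI x0 hx0I), h5 x.2 (hI x hxI)]
        rw [Subgroup.mem_normalizer_iff]
        intro h
        constructor
        · intro hh
          have h8 := Subgroup.mem_map_of_mem (MulAut.conj (x0.1⁻¹ * x.1)).toMonoidHom hh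
          rw [h6] at h8
          exact h8
        · intro hh
          have h8 : x0.1⁻¹ * x.1 * h * (x0.1⁻¹ * x.1)⁻¹ ∈
              (Subgroup.zpowers u).map (MulAut.conj (x0.1⁻¹ * x.1)).toMonoidHom := by rw [h6]; exact hh
          obtain ⟨w, hw, hw'⟩ := Subgroup.mem_map.1 h8
          have h9 : w = h := (MulAut.conj (x0.1⁻¹ * x.1)).injective hw'
          rwa [← h9]
      have := Fintype.ofFinite (Subgroup.normalizer (Subgroup.zpowers u : Set T))
      rw [Nat.card_eq_fintype_card, ← Finset.card_univ]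
      refine Finset.card_le_card_of_injOn
        (fun x => if h : x0.1⁻¹ * x.1 ∈ Subgroup.normalizer (Subgroup.zpowers u : Set T) then ⟨_, h⟩ else 1)
        (fun x _ => Finset.mem_coe.2 (Finset.mem_univ _)) ?_
      intro x hx x' hx' hxx
      have k1 := key x (Finset.mem_coe.1 hx)
      have k2 := key x' (Finset.mem_coe.1 hx')
      simp only [dif_pos k1, dif_pos k2, Subtype.mk.injEq] at hxx
      have e1 : x.1 = x'.1 := mul_left_cancel hxx
      have hxt : x.1 * u ^ x.2.val * x.1⁻¹ = t := (Finset.mem_filter.1 (Finset.mem_coe.1 hx)).2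
      have hxt' : x'.1 * u ^ x'.2.val * x'.1⁻¹ = t := (Finset.mem_filter.1 (Finset.mem_coe.1 hx')).2
      rw [← e1, ← hxt] at hxt'
      have e2 : u ^ x'.2.val = u ^ x.2.val := mul_left_cancel (mul_right_cancel hxt')
      have e3 : x'.2.val = x.2.val := by
        refine pow_injOn_Iio_orderOf ?_ ?_ e2
        · rw [hu]; exact ZMod.val_lt _
        · rw [hu]; exact ZMod.val_lt _
      exact Prod.ext e1 (ZMod.val_injective r e3).symm
  calc (Nat.card T : ℝ) * c ≤ Nat.card T * ∑ k ∈ (Finset.univ : Finset (ZMod r)).erase 0, F (u ^ k.val) :=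
        mul_le_mul_of_nonneg_left hcu (Nat.cast_nonneg _)
    _ ≤ _ := by rw [← h1]; exact h2

/-- `∑ m i = d`, `r` terms : `r ∑ (m i)² - d² ≥ s (r - s)`, `s = d mod r` -/
theorem sq_sum {ι : Type*} [Fintype ι] (m : ι → ℤ) {r d k s : ℤ} (hr : (Fintype.card ι : ℤ) = r)
    (hd : ∑ i, m i = d) (hk : d = r * k + s) (hr0 : 0 ≤ r) : s * (r - s) ≤ r * ∑ i, m i ^ 2 - d ^ 2 := by
  have h1 : 0 ≤ ∑ i, (m i - k) * (m i - k - 1) := by
    refine Finset.sum_nonneg fun i _ => ?_
    rcases le_or_gt (m i - k) 0 with h0 | h0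
    · exact mul_nonneg_of_nonpos_of_nonpos h0 (by omega)
    · exact mul_nonneg h0.le (by omega)
  have h2 : ∑ i, (m i - k) * (m i - k - 1) = ∑ i, m i ^ 2 - (2 * k + 1) * d + r * (k ^ 2 + k) := by
    have : ∀ i, (m i - k) * (m i - k - 1) = m i ^ 2 - (2 * k + 1) * m i + (k ^ 2 + k) := fun i => by ring
    simp only [this]
    rw [Finset.sum_add_distrib, Finset.sum_sub_distrib, Finset.sum_const, Finset.card_univ, nsmul_eq_mul, hr,
      ← Finset.mul_sum, hd]
  rw [h2] at h1
  have h3 := mul_nonneg hr0 h1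
  subst hk
  nlinarith

end Cfsg.Agent.H530.HT
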